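import Cfsg.Agent.Lib.Co1Weak71.Codes

/-!
# The weakly closed case of the Conway centraliser: checks on the fixed spaces and the words

Owner: helper71.
-/

set_option autoImplicit false
set_option maxRecDepth 100000
set_option maxHeartbeats 1000000

namespace Cfsg.Agent.Lib.Co1Weak71

open Cfsg.Agent.Lib.Co1Type31

/-- Commutation with a standard map. -/
def commF (s : ℕ) (w : List (ℕ × ℕ)) : Bool :=
  agree (fun k => prs w (stdF s k)) (fun k => stdF s (prs w k))

/-- The functional is preserved. -/
def chiOK (s a : ℕ) (w : List (ℕ × ℕ)) : Bool :=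
  (List.range (dimC s)).all fun j => (List.range (2 ^ dimC s)).any fun i =>
    Nat.beq (comb (cbs s) i) (prs w (comb (cbs s) (2 ^ j))) && (par (i &&& a) == par (2 ^ j &&& a))

/-- A word moves a radical vector by a vector of the moved space. -/
def moves (s a k : ℕ) (w : List (ℕ × ℕ)) : Bool :=
  okWord w && commF s w && inM s (prs w k ^^^ k) && !Nat.beq (prs w k) k && chiOK s a w

theorem basis_check : (List.range 5).all (fun s => decide (dimM s ≤ dimC s) && decide (dimC s ≤ 6) &&
    (cbs s).all (fun c => decide (c < 256) && Nat.beq (stdF s c) c) &&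
    (List.range (dimC s)).all (fun j => Nat.beq (comb (cbs s) (2 ^ j)) ((cbs s).getD j 0)) &&
    (List.range (2 ^ dimC s)).all (fun i => Nat.beq i 0 || !Nat.beq (comb (cbs s) i) 0)) = true := by
  decide +kernel

theorem coverC_check : (List.range 5).all (fun s => all8.all fun k => !Nat.beq (stdF s k) k ||
    (List.range (2 ^ dimC s)).any fun i => Nat.beq (comb (cbs s) i) k) = true := by
  decide +kernel

theorem coverM_check : (List.range 5).all (fun s => all8.all fun k => inM s (k ^^^ stdF s k)) = true := by
  decide +kernel

theorem imageM_check : (List.range 5).all (fun s => (List.range (2 ^ dimM s)).all fun i =>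
    all8.any fun k => Nat.beq (comb (cbs s) i) (k ^^^ stdF s k)) = true := by
  decide +kernel

theorem perp_check : (List.range 5).all (fun s => all8.all fun k =>
    !((cbs s).all fun c => !bn k c) || inM s k) = true := by
  decide +kernel

theorem as_check : (List.range 5).all (fun s => (List.range (2 ^ dimC s)).all fun a =>
    !((List.range (2 ^ dimM s)).all fun i => par (i &&& a) == qn (comb (cbs s) i)) ||
      (As s).contains a) = true := by
  decide +kernel

theorem asRange_check : (List.range 5).all (fun s => (As s).all fun a => decide (a < 2 ^ dimC s) &&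
    decide (8 ≤ (idxs s a).length) &&
    (Nat.beq a 0 || (List.range (2 ^ dimC s)).any fun i => par (i &&& a))) = true := by
  decide +kernel

theorem fixB_check : (List.range 5).all (fun s => (As s).all fun a => (tget fixTab s a).all fun c =>
    (idxs s a).any fun i => Nat.beq (comb (cbs s) i) c) = true := by
  decide +kernel

theorem rad_check : (List.range 5).all (fun s => (As s).all fun a => (idxs s a).all fun i =>
    qn (comb (cbs s) i) || !((tget fixTab s a).all fun c => !bn (comb (cbs s) i) c) ||
      inM s (comb (cbs s) i) ||
      (!Nat.beq a 0 && movW.any fun w => moves s a (comb (cbs s) i) w)) = true := by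
  decide +kernel

/-- A word moves a vector of the moved space, orthogonally to a preimage. -/
def movesM (s k : ℕ) (w : List (ℕ × ℕ)) : Bool :=
  okWord w && commF s w && !Nat.beq (prs w (k ^^^ stdF s k)) (k ^^^ stdF s k) &&
    !bn k (prs w (k ^^^ stdF s k)) && !bn (k ^^^ stdF s k) (prs w (k ^^^ stdF s k))

theorem mW_check : [2, 3].all (fun s => all8.all fun k => Nat.beq (k ^^^ stdF s k) 0 ||
    (mW.getD s []).any fun w => movesM s k w) = true := by
  decide +kernel

theorem mW_zero_check : [1, 4, 5].all (fun m => (mW.getD 0 []).any fun w =>
    okWord w && commF 0 w && !Nat.beq (prs w m) m) = true := by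
  decide +kernel

theorem fix_std_check : [2, 3, 4].all (fun s => Nat.beq (fixN (stdF s)) 16) = true := by
  decide +kernel

theorem kk_check : [2, 3].all (fun t => [0, 1, 2, 3].all fun i => [0, 1, 2, 3].all fun j =>
    Nat.beq i j || (bn ((kkTab.getD (t - 2) []).getD i 0)
        (((kkTab.getD (t - 2) []).getD j 0) ^^^ stdF t ((kkTab.getD (t - 2) []).getD j 0))
      == decide (i / 2 = j / 2))) = true := by
  decide +kernel

theorem kk_indep_check : [2, 3].all (fun t => (List.range 16).all fun i => Nat.beq i 0 ||
    !Nat.beq (comb (kkTab.getD (t - 2) []) i ^^^ stdF t (comb (kkTab.getD (t - 2) []) i)) 0) = true := by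
  decide +kernel

theorem kk_lt_check : kkTab.all (fun l => l.all fun k => decide (k < 256)) = true := by
  decide +kernel

/-- Coordinates of a map to the moved space. -/
def hv (c : ℕ) : ℕ := comb [1, 4] c

/-- The images of the basis under the map of a code. -/
def cimg (c : ℕ) : List ℕ :=
  [1, 4, 16 ^^^ hv (c &&& 3), 32 ^^^ hv ((c >>> 2) &&& 3), 64 ^^^ hv ((c >>> 4) &&& 3),
    128 ^^^ hv ((c >>> 6) &&& 3)]

/-- The action of a word on the codes. -/
def actI (i c : ℕ) : ℕ := (irrT.getD i []).getD c 0

theorem irr_check : (List.range 3).all (fun i => okWord (irrW.getD i []) && commF 0 (irrW.getD i []) &&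
    ([0, 1, 2, 3].all fun j => decide ((irrPre.getD i []).getD j 0 < 64) &&
      Nat.beq (prs (irrW.getD i []) (comb (cbs 0) ((irrPre.getD i []).getD j 0))) ((cbs 0).getD (2 + j) 0)) &&
    (List.range 256).all fun c => decide (actI i c < 256) && [0, 1, 2, 3].all fun j =>
      Nat.beq (prs (irrW.getD i []) (comb (cimg c) ((irrPre.getD i []).getD j 0)))
        ((cimg (actI i c)).getD (2 + j) 0)) = true := by
  decide +kernel

/-- The next code on the way to the target. -/
def step (x md : ℕ) : ℕ :=
  bif Nat.beq (md % 2) 1 then x ^^^ actI (md / 2) x else actI (md / 2) x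

/-- Each entry leads to the target or an earlier entry. -/
def reachOK : List (ℕ × ℕ) → List ℕ → Bool
  | [], _ => true
  | (x, md) :: r, acc => acc.any (fun y => Nat.beq y (step x md)) && decide (x < 256) &&
      decide (md < 6) && reachOK r (x :: acc)

theorem reach_check : reachOK reach [target] = true := by decide +kernel

theorem reach_cover : (List.range 256).all (fun x => Nat.beq x 0 || Nat.beq x target ||
    reach.any fun p => Nat.beq p.1 x) = true := by
  decide +kernel

/-- Each entry is an image of the target or of an earlier entry. -/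
def orbitOK : List (ℕ × ℕ × ℕ) → List ℕ → Bool
  | [], acc => decide (acc.reverse = orbitPts)
  | (x, p, i) :: r, acc => acc.any (fun y => Nat.beq y p) && decide (i < 3) && Nat.beq (actI i p) x &&
      orbitOK r (x :: acc)

theorem orbit_check : orbitOK orbitW [target] = true := by decide +kernel

theorem unit_check : (List.range 8).all (fun j => Nat.beq (comb orbitPts (unitW.getD j 0)) (2 ^ j)) = true := by
  decide +kernel

end Cfsg.Agent.Lib.Co1Weak71
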