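import Cfsg.Agent.Lib.Co1Type31.Sylow
import Cfsg.Agent.Lib.Co1Weak71.Data

/-!
# The weakly closed case of the Conway centraliser: coordinates

Owner: helper71.
-/

set_option autoImplicit false

namespace Cfsg.Agent.Lib.Co1Weak71

open Cfsg.Agent.Lib.Co1Type31

/-- Parity of a number below 64. -/
def par (n : ℕ) : Bool := (List.range 6).foldl (fun r j => Bool.xor r (n.testBit j)) false

/-- Combination of a list of codes. -/
def comb : List ℕ → ℕ → ℕ
  | [], _ => 0
  | x :: r, i => (bif Nat.beq (i &&& 1) 1 then x else 0) ^^^ comb r (i >>> 1)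

/-- The basis of the fixed space of a standard map. -/
def cbs (s : ℕ) : List ℕ := cbTab.getD s []

/-- Its dimension. -/
def dimC (s : ℕ) : ℕ := (cbs s).length

/-- The dimension of the moved space. -/
def dimM (s : ℕ) : ℕ := [2, 2, 4, 4, 4].getD s 0

/-- The admissible functionals. -/
def As (s : ℕ) : List ℕ := asTab.getD s []

/-- The indices of the centralised codes. -/
def idxs (s a : ℕ) : List ℕ := (List.range (2 ^ dimC s)).filter fun i => !par (i &&& a)

/-- Lookup in a table. -/
def tget {α : Type} (t : List (ℕ × List α)) (s a : ℕ) : List α := (t.lookup (64 * s + a)).getD []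

/-- The possible actions. -/
def surv (s a : ℕ) : List (List ℕ) := tget survTab s a

/-- Membership in the moved space. -/
def inM (s k : ℕ) : Bool := (List.range (2 ^ dimM s)).any fun i => Nat.beq (comb (cbs s) i) k

/-- The number of fixed vectors. -/
def fixN (f : ℕ → ℕ) : ℕ := ((List.range 256).filter fun k => Nat.beq (f k) k).length

theorem and_one_cases (i : ℕ) : i &&& 1 = 0 ∨ i &&& 1 = 1 := by
  rw [Nat.and_one_is_mod]; omega

theorem comb_zero : ∀ b : List ℕ, comb b 0 = 0
  | [] => rfl
  | x :: r => by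
    rw [comb, Nat.zero_shiftRight, comb_zero r, Nat.zero_and, show Nat.beq 0 1 = false from rfl]
    simp

theorem comb_xor : ∀ (b : List ℕ) (i j : ℕ), comb b (i ^^^ j) = comb b i ^^^ comb b j
  | [], _, _ => by simp [comb]
  | x :: r, i, j => by
    rw [comb, comb, comb, Nat.shiftRight_xor_distrib, comb_xor r, Nat.and_xor_distrib_right]
    rcases and_one_cases i with hi | hi <;> rcases and_one_cases j with hj | hj <;> rw [hi, hj] <;>
      simp [show Nat.beq 0 1 = false from rfl, Nat.xor_left_comm,
        Nat.xor_comm, Nat.xor_assoc]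

theorem comb_lt : ∀ {b : List ℕ}, (∀ x ∈ b, x < 256) → ∀ i, comb b i < 256
  | [], _, _ => Nat.zero_lt_succ _
  | x :: r, h, i => by
    rw [comb]
    refine xor_lt ?_ (comb_lt (fun y hy => h y (List.mem_cons_of_mem _ hy)) _)
    cases Nat.beq (i &&& 1) 1
    · exact Nat.zero_lt_succ _
    · exact h x (List.mem_cons_self ..)

theorem comb_map {f : ℕ → ℕ} (hf : Lin8 f) :
    ∀ {b : List ℕ}, (∀ x ∈ b, x < 256) → ∀ i, f (comb b i) = comb (b.map f) i
  | [], _, _ => hf.zero
  | x :: r, h, i => by
    have hr : ∀ y ∈ r, y < 256 := fun y hy => h y (List.mem_cons_of_mem _ hy)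
    have hx : x < 256 := h x (List.mem_cons_self ..)
    rw [List.map_cons, comb, comb, ← comb_map hf hr]
    cases Nat.beq (i &&& 1) 1
    · simp
    · rw [cond_true, hf.add x hx _ (comb_lt hr _)]
      rfl

theorem comb_bits8 : ∀ k < 256, comb bits8 k = k := by decide +kernel

theorem eq_comb_bits {f : ℕ → ℕ} (hf : Lin8 f) {k : ℕ} (hk : k < 256) :
    f k = comb (bits8.map f) k := by
  conv_lhs => rw [← comb_bits8 k hk]
  exact comb_map hf bits8_lt k

theorem comb_lin {b : List ℕ} (hb : ∀ x ∈ b, x < 256) : Lin8 (comb b) :=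
  ⟨fun k _ => comb_lt hb k, fun _ _ _ _ => comb_xor b _ _⟩

theorem par_xor_aux : ∀ x < 64, ∀ y < 64, par (x ^^^ y) = Bool.xor (par x) (par y) := by decide +kernel

theorem par_and_xor {i j a : ℕ} (ha : a < 64) :
    par ((i ^^^ j) &&& a) = Bool.xor (par (i &&& a)) (par (j &&& a)) := by
  rw [Nat.and_xor_distrib_right]
  exact par_xor_aux _ (lt_of_le_of_lt Nat.and_le_right ha) _ (lt_of_le_of_lt Nat.and_le_right ha)

theorem fixN_congr {f f' : ℕ → ℕ} (h : ∀ k < 256, f k = f' k) : fixN f = fixN f' := by
  rw [fixN, fixN]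
  congr 1
  exact List.filter_congr fun k hk => by rw [h k (List.mem_range.1 hk)]

theorem filter_range_card (n : ℕ) (p : ℕ → Bool) :
    ((List.range n).filter p).length = ((Finset.range n).filter fun k => p k = true).card := by
  rw [← List.toFinset_card_of_nodup (List.nodup_range.filter _), List.toFinset_filter,
    List.toFinset_range]

theorem fixN_conj {f f' p : ℕ → ℕ} (hlt : ∀ k < 256, p k < 256)
    (hinj : ∀ j < 256, ∀ k < 256, p j = p k → j = k) (he : ∀ k < 256, f' (p k) = p (f k))
    (hf : ∀ k < 256, f k < 256) : fixN f' = fixN f := by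
  classical
  have hs : (Finset.range 256).image p = Finset.range 256 := by
    refine Finset.eq_of_subset_of_card_le (fun y hy => ?_) ?_
    · obtain ⟨x, hx, rfl⟩ := Finset.mem_image.1 hy
      exact Finset.mem_range.2 (hlt x (Finset.mem_range.1 hx))
    · rw [Finset.card_image_of_injOn fun x hx y hy e =>
        hinj x (Finset.mem_range.1 hx) y (Finset.mem_range.1 hy) e]
  rw [fixN, fixN, filter_range_card, filter_range_card]
  conv_lhs => rw [← hs, Finset.filter_image]
  rw [Finset.card_image_of_injOn]
  · refine congrArg Finset.card (Finset.filter_congr fun k hk => ?_)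
    have hk' := Finset.mem_range.1 hk
    rw [he k hk']
    constructor
    · intro e
      rw [hinj _ (hf k hk') _ hk' (Nat.eq_of_beq_eq_true e)]
      exact Nat.beq_refl k
    · intro e
      rw [Nat.eq_of_beq_eq_true e]
      exact Nat.beq_refl _
  · intro x hx y hy e
    exact hinj x (Finset.mem_range.1 (Finset.mem_filter.1 hx).1) y
      (Finset.mem_range.1 (Finset.mem_filter.1 hy).1) e

end Cfsg.Agent.Lib.Co1Weak71
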