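import Cfsg.Agent.Lib.Co1Weak71.Codes

/-!
# The weakly closed case of the Conway centraliser: checks on the good actions

Owner: helper71.
-/

set_option autoImplicit false
set_option maxRecDepth 100000
set_option maxHeartbeats 1000000

namespace Cfsg.Agent.Lib.Co1Weak71

open Cfsg.Agent.Lib.Co1Type31

/-- The action with a given index. -/
def act2 (s i : ℕ) : ℕ → ℕ := comb ((surv s 0).getD i [])

/-- A good index. -/
def good (s i : ℕ) : Bool := (goodMask.getD (s - 2) 0).testBit i

/-- The good indices. -/
def goods (s : ℕ) : List ℕ := (List.range 64).filter (good s)

/-- The good indices with good partner. -/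
def both (s : ℕ) : List ℕ := (List.range 64).filter fun i => good s i && good s (i ^^^ uIdx)

/-- The index is good with both parts and the product of a pair. -/
def okPair (s a b x : ℕ) : Bool := good s (x ^^^ a) && good s (x ^^^ b) && good s (x ^^^ (a ^^^ b ^^^ uIdx))

theorem surv_basic : (List.range 5).all (fun s => (As s).all fun a => (surv s a).all fun L =>
    decide (L.length = 8) && L.all (fun x => decide (x < 256))) = true := by
  decide +kernel

theorem small_check : [0, 1].all (fun s => (As s).all fun a =>
    Nat.ble ((surv s a).filter fun L => !(all8.any fun v => qn v && agree (comb L) (refl v))).length 15) = true := by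
  decide +kernel

theorem kernel_check : Nat.ble (surv 0 0).length 2 = true := by decide +kernel

theorem group_check : [2, 3].all (fun s => decide ((surv s 0).length = 64) &&
    agree (act2 s uIdx) (stdF s) &&
    (List.range 64).all fun i => (List.range 64).all fun j =>
      agree (fun k => act2 s i (act2 s j k)) (act2 s (i ^^^ j))) = true := by
  decide +kernel

theorem good_check : [2, 3].all (fun s => (List.range 64).all fun i =>
    !Nat.beq (fixN (act2 s i)) 16 || good s i) = true := by
  decide +kernel

theorem triple_check : [2, 3].all (fun s => (both s).all fun a => (both s).all fun b =>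
    !(both s).any (fun x => Nat.beq x (a ^^^ b)) || (both s).all fun c =>
      !((both s).any (fun x => Nat.beq x (a ^^^ c)) && (both s).any (fun x => Nat.beq x (b ^^^ c)) &&
        (both s).any (fun x => Nat.beq x (a ^^^ b ^^^ c)))) = true := by
  decide +kernel

theorem nine_check : [2, 3].all (fun s => (goods s).all fun a => (goods s).all fun b =>
    !good s (a ^^^ b ^^^ uIdx) || ((goods s).filter (okPair s a b)).all fun c =>
      ((goods s).filter (okPair s a b)).all fun d =>
        !(good s (c ^^^ d ^^^ uIdx) && okPair s a b (c ^^^ d ^^^ uIdx))) = true := by
  decide +kernel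

theorem c44_check : (surv 4 8).all (fun L =>
    !(Nat.beq (fixN (comb L)) 16 && Nat.beq (fixN fun k => comb L (stdF 4 k)) 16) || c44.contains L) = true := by
  decide +kernel

/-- The products of two good actions have no common good neighbour. -/
def pair44 (a b : ℕ) : Bool :=
  (List.range c44.length).all fun d =>
    !agree (fun k => comb (c44.getD a []) (comb (c44.getD b []) k)) (comb (c44.getD d [])) ||
      ((adj44.getD a 0).testBit b &&
        Nat.beq ((adj44.getD a 0) &&& (adj44.getD b 0) &&& (adj44.getD d 0)) 0)

theorem pair44_check : (List.range c44.length).all (fun a => (List.range c44.length).all fun b =>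
    pair44 a b) = true := by
  decide +kernel

end Cfsg.Agent.Lib.Co1Weak71
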