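import Cfsg.Agent.Lib.Co1Weak71.Pair

/-!
# The weakly closed case of the Conway centraliser: standard position on both sides

Owner: helper71.
-/

set_option autoImplicit false

namespace Cfsg.Agent.Lib.Co1Weak71

open Cfsg.Agent.Lib.Co1Type31
open Cfsg.Agent.Lib.LargeExtraspecial.Basic

variable {G : Type*} [Group G] {z : G} {Q : Subgroup G} {co : G → ℕ} {ac : G → ℕ → ℕ}

theorem par_two_pow : ∀ a < 64, ∀ j < 6, par (2 ^ j &&& a) = a.testBit j := by decide +kernel

theorem par_zero (a : ℕ) : par (0 &&& a) = false := by rw [Nat.zero_and]; rfl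

theorem of_act (F : Frame z Q co ac) (wc : ∀ x : G, x * z * x⁻¹ ∈ Q → x * z * x⁻¹ = z) {g u : G}
    (hu : u = g * z * g⁻¹) (hc : Commute u z) (ne : u ≠ z) {s : ℕ} (hs : s < 5)
    (act : ∀ k < 256, ac u k = stdF s k) : ∃ a, Cfg z Q co ac g u s a := by
  classical
  have hzz := F.es.sq
  have huu : u * u = 1 := by
    rw [hu, show g * z * g⁻¹ * (g * z * g⁻¹) = g * (z * z) * g⁻¹ by group, hzz, mul_one, mul_inv_cancel]
  have huinv : u⁻¹ = u := inv_eq_of_mul_eq_one_right huu
  have key : ∀ q ∈ Q, stdF s (co q) = co q → u * q * u = q ∨ u * q * u = q * z := fun q hq hf => by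
    have hm := F.norm u hc q hq
    rw [huinv] at hm
    refine F.co_eq hq hm ?_
    have := F.conj u hc q hq
    rw [huinv, act _ (F.co_lt q hq), hf] at this
    exact this.symm
  choose rep hrep hrepc using fun i : ℕ => F.co_surj _ (comb_fixed hs i).1
  let b : Fin (dimC s) → Bool := fun j => decide (u * rep (2 ^ (j : ℕ)) * u = rep (2 ^ (j : ℕ)) * z)
  set a := Nat.ofBits b with hadef
  have ha : a < 2 ^ dimC s := Nat.ofBits_lt_two_pow b
  have ha64 : a < 64 := lt_of_lt_of_le ha (Nat.pow_le_pow_right two_pos (dimC_le hs))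
  have chi : ∀ i < 2 ^ dimC s, ∀ q ∈ Q, co q = comb (cbs s) i → u * q * u = q * pw z (par (i &&& a)) := by
    refine ind_bits (dimC_le hs) ?_ fun j hj i _ ih q hq hqc => ?_
    · intro q hq hqc
      rw [comb_zero] at hqc
      rw [par_zero, show pw z false = 1 from rfl, mul_one]
      rcases F.co_zero q hq hqc with e | e <;> subst e
      · rw [mul_one, huu]
      · rw [hc.eq, mul_assoc, huu, mul_one]
    · set r := rep (2 ^ j) with hr
      have hrQ : r ∈ Q := hrep _
      have hrc : co r = comb (cbs s) (2 ^ j) := hrepc _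
      have hjr : u * r * u = r * pw z (a.testBit j) := by
        rw [hadef, Nat.testBit_ofBits_lt b j hj]
        simp only [b]
        rcases key r hrQ (by rw [hrc]; exact (comb_fixed hs _).2) with e | e
        · rw [decide_eq_false (fun e' => F.es.ne (left_eq_mul.1 (e.symm.trans e'))), e]
          exact (mul_one r).symm
        · rw [decide_eq_true e, e]
          rfl
      have hq' : q * r⁻¹ ∈ Q := mul_mem hq (inv_mem hrQ)
      have hqc' : co (q * r⁻¹) = comb (cbs s) i := by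
        rw [F.co_mul q hq _ (inv_mem hrQ), F.co_inv hrQ, hrc, hqc, comb_xor, Nat.xor_assoc, Nat.xor_self,
          Nat.xor_zero]
      have hpw : ∀ c, Commute r (pw z c) := fun c => by
        cases c
        · exact Commute.one_right r
        · exact F.commute_of_mem hrQ
      calc u * q * u = u * (q * r⁻¹) * (u * u) * r * u := by rw [huu, mul_one]; group
        _ = (u * (q * r⁻¹) * u) * (u * r * u) := by group
        _ = q * r⁻¹ * pw z (par (i &&& a)) * (r * pw z (a.testBit j)) := by rw [ih _ hq' hqc', hjr]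
        _ = q * r⁻¹ * (pw z (par (i &&& a)) * r) * pw z (a.testBit j) := by simp only [mul_assoc]
        _ = q * (pw z (par (i &&& a)) * pw z (a.testBit j)) := by rw [← (hpw _).eq]; group
        _ = _ := by
          rw [pw_mul hzz, par_and_xor ha64, par_two_pow a ha64 j (lt_of_lt_of_le hj (dimC_le hs))]
  have hA : a ∈ As s := by
    have h := List.all_eq_true.1 (List.all_eq_true.1 as_check s (List.mem_range.2 hs)) a (List.mem_range.2 ha)
    have hall : ((List.range (2 ^ dimM s)).all fun i => par (i &&& a) == qn (comb (cbs s) i)) = true := by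
      refine List.all_eq_true.2 fun i hi => beq_iff_eq.2 ?_
      have hi' : i < 2 ^ dimC s :=
        lt_of_lt_of_le (List.mem_range.1 hi) (Nat.pow_le_pow_right two_pos (cbs_spec hs).1)
      obtain ⟨k, hk, hke⟩ := List.any_eq_true.1
        (List.all_eq_true.1 (List.all_eq_true.1 imageM_check s (List.mem_range.2 hs)) i hi)
      have hke' := Nat.eq_of_beq_eq_true hke
      obtain ⟨q, hq, hqc⟩ := F.co_surj k (mem_all8.1 hk)
      set x := q * (u * q⁻¹ * u⁻¹) with hx
      have hm : u * q⁻¹ * u⁻¹ ∈ Q := F.norm u hc _ (inv_mem hq)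
      have hxQ : x ∈ Q := mul_mem hq hm
      have hxc : co x = comb (cbs s) i := by
        rw [hx, F.co_mul q hq _ hm, F.conj u hc _ (inv_mem hq), F.co_inv hq, act _ (F.co_lt q hq), hqc, hke']
      have hxi : x⁻¹ = x * pw z (qn (co x)) :=
        inv_eq_of_mul_eq_one_right (by rw [← mul_assoc, F.sq x hxQ, pw_mul hzz, Bool.xor_self]; rfl)
      have e : u * x * u = x⁻¹ := by
        rw [hx, huinv]
        calc u * (q * (u * q⁻¹ * u)) * u = u * q * u * q⁻¹ * (u * u) := by group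
          _ = (q * (u * q⁻¹ * u))⁻¹ := by rw [huu, mul_one, mul_inv_rev, mul_inv_rev, mul_inv_rev, inv_inv, huinv]; group
      rw [chi i hi' x hxQ hxc, hxi, hxc] at e
      exact pw_inj F.es.ne (mul_left_cancel e)
    rw [hall, Bool.not_true, Bool.false_or] at h
    exact List.contains_iff_mem.1 h
  exact ⟨a, F, wc, hu, hc, ne, hs, act, hA, fun q hq i hi => chi i hi q hq⟩

variable [Finite G]

theorem exists_cfg2 (F : Frame z Q co ac) (wc : ∀ x : G, x * z * x⁻¹ ∈ Q → x * z * x⁻¹ = z) (g : G)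
    (hc : Commute (g * z * g⁻¹) z) (ne : g * z * g⁻¹ ≠ z) :
    ∃ c g' u v s a t b, Commute c z ∧ u = c * (g * z * g⁻¹) * c⁻¹ ∧ Cfg z Q co ac g' u s a ∧
      Cfg z Q co ac g'⁻¹ v t b := by
  have hzz := F.es.sq
  have hsq : ∀ x : G, (x * z * x⁻¹) * (x * z * x⁻¹) = 1 := fun x => by
    rw [show x * z * x⁻¹ * (x * z * x⁻¹) = x * (z * z) * x⁻¹ by group, hzz, mul_one, mul_inv_cancel]
  obtain ⟨c, hcz, s, hs, hact⟩ := F.exists_std hc (hsq g) fun hm => ne (wc g hm)
  set g₁ := c * g with hg₁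
  set u := c * (g * z * g⁻¹) * c⁻¹ with hu
  have hu₁ : u = g₁ * z * g₁⁻¹ := by rw [hu, hg₁]; group
  have hcu : Commute u z := (hcz.mul_left hc).mul_left hcz.inv_left
  have hune : u ≠ z := fun e => ne (by
    calc g * z * g⁻¹ = c⁻¹ * u * c := by rw [hu]; group
      _ = z := by rw [e, hcz.inv_left.eq, inv_mul_cancel_right])
  set v₁ := g₁⁻¹ * z * g₁⁻¹⁻¹ with hv₁
  have hv₁c : Commute v₁ z := by
    have := (hcu.map (MulAut.conj g₁⁻¹).toMonoidHom).symm
    simpa [hv₁, hu₁, mul_assoc] using this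
  have hv₁ne : v₁ ≠ z := fun e => hune (by
    calc u = g₁ * v₁ * g₁⁻¹ := by rw [hu₁, e]
      _ = z := by rw [hv₁]; group)
  obtain ⟨d, hdz, t, ht, hact'⟩ := F.exists_std hv₁c (hsq g₁⁻¹) fun hm => hv₁ne (wc g₁⁻¹ hm)
  set g₂ := g₁ * d⁻¹ with hg₂
  have hu₂ : u = g₂ * z * g₂⁻¹ := by
    rw [hu₁, hg₂, show g₁ * d⁻¹ * z * (g₁ * d⁻¹)⁻¹ = g₁ * (d⁻¹ * z * d) * g₁⁻¹ by group, hdz.inv_left.eq,
      inv_mul_cancel_right]
  have hv₂ : d * v₁ * d⁻¹ = g₂⁻¹ * z * g₂⁻¹⁻¹ := by rw [hg₂, hv₁]; group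
  obtain ⟨a, ha⟩ := of_act F wc hu₂ hcu hune hs hact
  obtain ⟨b, hb⟩ := of_act F wc hv₂ ((hdz.mul_left hv₁c).mul_left hdz.inv_left)
    (fun e => hv₁ne (by
      calc v₁ = d⁻¹ * (d * v₁ * d⁻¹) * d := by group
        _ = z := by rw [e, hdz.inv_left.eq, inv_mul_cancel_right])) ht hact'
  exact ⟨c, g₂, u, d * v₁ * d⁻¹, s, a, t, b, hcz, rfl, ha, hb⟩

namespace Cfg

omit [Finite G]
variable {g u : G} {s a : ℕ} (h : Cfg z Q co ac g u s a)
include h

theorem F_comm_D {f d : G} (hfP : InP Q g f) (hfz : Commute f z) (hdP : InP Q g d) (hdQ : d ∈ Q) :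
    Commute f d := by
  have hfd : InP Q g (f * d * f⁻¹) := h.inP_norm (h.comm_u hfP) hdP
  rcases h.frame.es.conj (g⁻¹ * f * g) hfP (g⁻¹ * d * g) hdP with e | e
  · exact mul_inv_eq_iff_eq_mul.1 (by
      calc f * d * f⁻¹ = g * ((g⁻¹ * f * g) * (g⁻¹ * d * g) * (g⁻¹ * f * g)⁻¹) * g⁻¹ := by group
        _ = d := by rw [e]; group)
  · have e' : f * d * f⁻¹ = d * u := by
      calc f * d * f⁻¹ = g * ((g⁻¹ * f * g) * (g⁻¹ * d * g) * (g⁻¹ * f * g)⁻¹) * g⁻¹ := by group
        _ = d * u := by rw [e, h.hu]; group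
    have := mul_mem (inv_mem hdQ) (h.frame.norm f hfz d hdQ)
    rw [e', inv_mul_cancel_left] at this
    exact absurd this h.u_notQ

/-- The commutator of the two centralisers lies in the intersection. -/
theorem F_comm_mem {f e : G} (hfP : InP Q g f) (hfz : Commute f z) (heQ : e ∈ Q) (heu : Commute e u) :
    f * e * f⁻¹ * e⁻¹ ∈ Q ∧ InP Q g (f * e * f⁻¹ * e⁻¹) ∧
      co (f * e * f⁻¹ * e⁻¹) = ac f (co e) ^^^ co e := by
  have hm := h.frame.norm f hfz e heQ
  refine ⟨mul_mem hm (inv_mem heQ), ?_, ?_⟩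
  · have := h.inP_mul hfP (h.inP_norm heu (h.inP_inv hfP))
    simpa [mul_assoc] using this
  · rw [h.frame.co_mul _ hm _ (inv_mem heQ), h.frame.conj f hfz e heQ, h.frame.co_inv heQ]

/-- The action of an element of the second centraliser. -/
theorem F_iso {f : G} (hfP : InP Q g f) (hfz : Commute f z) :
    Iso8 (ac f) ∧ ∀ k < 256, ac f (stdF s k) = stdF s (ac f k) :=
  ⟨h.frame.iso hfz, fun _ hk => h.ac_comm hfz (h.comm_u hfP) hk⟩

/-- Elements of the second centraliser with the same action differ in the intersection. -/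
theorem F_quot {f f' : G} (hfP : InP Q g f) (hfz : Commute f z) (hfP' : InP Q g f') (hfz' : Commute f' z)
    (e : ∀ k < 256, ac f k = ac f' k) : InP Q g (f⁻¹ * f') ∧ f⁻¹ * f' ∈ Q :=
  ⟨h.inP_mul (h.inP_inv hfP) hfP', h.frame.faithful _ (hfz.inv_left.mul_left hfz') fun k hk => by
    rw [h.frame.ac_mul hfz.inv_left hfz' hk, ← e k hk, h.frame.ac_inv hfz hk]⟩

theorem transfer {r : G} (hr : r ∈ Q) {v : G} {t b : ℕ} (h' : Cfg z Q co ac g⁻¹ v t b) (hrv : Commute r v) :
    InP Q g (g * r * g⁻¹) ∧ Commute (g * r * g⁻¹) z := by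
  refine ⟨by simpa [InP, mul_assoc] using hr, ?_⟩
  have := hrv.map (MulAut.conj g).toMonoidHom
  simpa [h'.hu, mul_assoc] using this

theorem sixteen {v : G} {t b : ℕ} (h' : Cfg z Q co ac g⁻¹ v t b) :
    ∃ T : Finset G, 16 ≤ T.card ∧ ∀ f ∈ T, InP Q g f ∧ Commute f z := by
  classical
  choose rep hrep hrepc using fun i : ℕ => h.frame.co_surj _ (comb_fixed h'.hs i).1
  refine ⟨((idxs t b).toFinset ×ˢ (Finset.univ : Finset Bool)).image fun p => g * (rep p.1 * pw z p.2) * g⁻¹,
    ?_, fun f hf => ?_⟩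
  · rw [Finset.card_image_of_injOn, Finset.card_product,
      List.toFinset_card_of_nodup (l := idxs t b) (List.nodup_range.filter _)]
    · have := (as_lt h'.hs h'.ha).2.1
      simp only [Finset.card_univ, Fintype.card_bool] at this ⊢
      omega
    · intro p hp p' hp' e
      simp only [Finset.coe_product, Set.mem_prod, Finset.mem_coe, List.mem_toFinset] at hp hp'
      have e' : rep p.1 * pw z p.2 = rep p'.1 * pw z p'.2 := mul_left_cancel (mul_right_cancel e)
      have hpwQ : ∀ c, pw z c ∈ Q ∧ co (pw z c) = 0 := fun c => by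
        cases c
        · exact ⟨one_mem Q, h.frame.co_one⟩
        · exact ⟨h.frame.es.mem, h.frame.co_z⟩
      have ec := congrArg co e'
      rw [h.frame.co_mul _ (hrep _) _ (hpwQ _).1, h.frame.co_mul _ (hrep _) _ (hpwQ _).1, (hpwQ _).2,
        (hpwQ _).2, Nat.xor_zero, Nat.xor_zero, hrepc, hrepc] at ec
      have hi := (mem_idxs.1 hp.1).1
      have hi' := (mem_idxs.1 hp'.1).1
      have e1 : p.1 = p'.1 := Nat.eq_of_xor_eq_zero ((cbs_spec h'.hs).2.2.2.2 _ (Nat.xor_lt_two_pow hi hi')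
        (by rw [comb_xor, ec, Nat.xor_self]))
      rw [e1] at e'
      exact Prod.ext e1 (pw_inj h.frame.es.ne (mul_left_cancel e'))
  · obtain ⟨⟨i, c⟩, hp, rfl⟩ := Finset.mem_image.1 hf
    have hi : i ∈ idxs t b := List.mem_toFinset.1 (Finset.mem_product.1 hp).1
    have hcQ : pw z c ∈ Q := by
      cases c
      · exact one_mem Q
      · exact h.frame.es.mem
    have hcom : Commute (rep i * pw z c) v := (h'.comm_of_idx (hrep i) hi (hrepc i)).mul_left
      ((h'.commute_pw h'.hc c).symm)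
    exact h.transfer (mul_mem (hrep i) hcQ) h' hcom

end Cfg

end Cfsg.Agent.Lib.Co1Weak71
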