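import Cfsg.Agent.Lib.Co1Weak71.Codes

/-!
# The weakly closed case of the Conway centraliser: the possible actions

An isometry fixing the centralised codes and commuting with the standard map is found by a search over the
images of a completion of their basis.

Owner: helper71.
-/

set_option autoImplicit false
set_option maxRecDepth 100000
set_option maxHeartbeats 1000000

namespace Cfsg.Agent.Lib.Co1Weak71

open Cfsg.Agent.Lib.Co1Type31

/-- All choices of images compatible with the form satisfy the test. -/
def srch (leaf : List ℕ → Bool) : List (ℕ × List ℕ) → List (ℕ × ℕ) → Bool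
  | [], acc => leaf (acc.map Prod.snd)
  | (e, cs) :: r, acc => cs.all fun y =>
      !(acc.all fun p => bn y p.2 == bn e p.1) || srch leaf r (acc ++ [(e, y)])

/-- The images of the unit vectors. -/
def imgBits (s a : ℕ) (ys : List ℕ) : List ℕ :=
  (tget invTab s a).map (comb (tget fixTab s a ++ ys))

/-- The test at the end of the search. -/
def leafOK (s a : ℕ) (ys : List ℕ) : Bool :=
  !agree (fun k => comb (imgBits s a ys) (stdF s k)) (fun k => stdF s (comb (imgBits s a ys) k)) ||
    (surv s a).contains (imgBits s a ys)

theorem cand_check : (List.range 5).all (fun s => (As s).all fun a =>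
    decide ((tget freeTab s a).length = (tget candTab s a).length) &&
    (tget freeTab s a).all (fun e => decide (e < 256)) &&
    ((tget freeTab s a).zip (tget candTab s a)).all fun p => all8.all fun y =>
      !(qn y == qn p.1 && (tget fixTab s a).all fun c => bn y c == bn p.1 c) ||
        p.2.any fun x => Nat.beq x y) = true := by
  decide +kernel

theorem inv_check : (List.range 5).all (fun s => (As s).all fun a =>
    (tget fixTab s a).all (fun c => decide (c < 256)) &&
    decide ((tget invTab s a).map (comb (tget fixTab s a ++ tget freeTab s a)) = bits8)) = true := by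
  decide +kernel

theorem search_check : (List.range 5).all (fun s => (As s).all fun a =>
    srch (leafOK s a) ((tget freeTab s a).zip (tget candTab s a)) []) = true := by
  decide +kernel

theorem srch_sound {leaf : List ℕ → Bool} {f : ℕ → ℕ} (hbn : ∀ j < 256, ∀ k < 256, bn (f j) (f k) = bn j k) :
    ∀ (r : List (ℕ × List ℕ)) (acc : List ℕ), (∀ e ∈ acc, e < 256) →
      (∀ p ∈ r, p.1 < 256 ∧ f p.1 ∈ p.2) → srch leaf r (acc.map fun e => (e, f e)) = true →
      leaf ((acc ++ r.map Prod.fst).map f) = true
  | [], acc, _, _, h => by
    rw [srch, List.map_map] at h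
    rw [List.map_nil, List.append_nil]
    exact h
  | (e, cs) :: r, acc, hacc, hr, h => by
    obtain ⟨he, hfe⟩ := hr (e, cs) (List.mem_cons_self ..)
    have h' := List.all_eq_true.1 h (f e) hfe
    rw [Bool.or_eq_true] at h'
    have hall : (acc.map fun x => (x, f x)).all (fun p => bn (f e) p.2 == bn e p.1) = true :=
      List.all_eq_true.2 fun p hp => by
        obtain ⟨x, hx, rfl⟩ := List.mem_map.1 hp
        exact beq_iff_eq.2 (hbn e he x (hacc x hx))
    rw [hall] at h'
    rcases h' with h' | h'
    · exact absurd h' (by decide)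
    · have := srch_sound hbn r (acc ++ [e])
        (fun x hx => by
          rcases List.mem_append.1 hx with hx | hx
          · exact hacc x hx
          · rw [List.mem_singleton] at hx; exact hx ▸ he)
        (fun p hp => hr p (List.mem_cons_of_mem _ hp)) (by rwa [List.map_append])
      simpa using this

/-- The possible actions are in the table. -/
theorem surv_mem {s a : ℕ} (hs : s < 5) (ha : a ∈ As s) {f : ℕ → ℕ} (hf : Iso8 f)
    (hfix : ∀ i ∈ idxs s a, f (comb (cbs s) i) = comb (cbs s) i)
    (hB : ∀ c ∈ tget fixTab s a, ∃ i ∈ idxs s a, comb (cbs s) i = c)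
    (hcomm : ∀ k < 256, f (stdF s k) = stdF s (f k)) :
    ∃ L ∈ surv s a, ∀ k < 256, f k = comb L k := by
  have hs' := List.mem_range.2 hs
  have h1 := List.all_eq_true.1 (List.all_eq_true.1 cand_check s hs') a ha
  have h2 := List.all_eq_true.1 (List.all_eq_true.1 inv_check s hs') a ha
  have h3 := List.all_eq_true.1 (List.all_eq_true.1 search_check s hs') a ha
  simp only [Bool.and_eq_true, decide_eq_true_eq] at h1 h2
  obtain ⟨⟨hlen, hfree⟩, hc⟩ := h1
  obtain ⟨hfixlt, hinv⟩ := h2
  have hfree' : ∀ e ∈ tget freeTab s a, e < 256 := fun e he =>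
    of_decide_eq_true (List.all_eq_true.1 hfree e he)
  have hfB : ∀ c ∈ tget fixTab s a, f c = c := fun c hcm => by
    obtain ⟨i, hi, rfl⟩ := hB c hcm
    exact hfix i hi
  have hfix' : ∀ c ∈ tget fixTab s a, c < 256 := fun c hcm =>
    of_decide_eq_true (List.all_eq_true.1 hfixlt c hcm)
  have hl := srch_sound (f := f) (fun j hj k hk => hf.bn_eq hj hk) _ [] (by simp)
    (fun p hp => by
      have hp1 : p.1 < 256 := hfree' _ (List.of_mem_zip hp).1
      refine ⟨hp1, ?_⟩
      have h := List.all_eq_true.1 (List.all_eq_true.1 hc p hp) (f p.1) (mem_all8.2 (hf.lt _ hp1))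
      have hcond : (qn (f p.1) == qn p.1 && (tget fixTab s a).all fun c => bn (f p.1) c == bn p.1 c) = true := by
        rw [Bool.and_eq_true]
        refine ⟨beq_iff_eq.2 (hf.pres _ hp1), List.all_eq_true.2 fun c hcm => beq_iff_eq.2 ?_⟩
        conv_lhs => rw [← hfB c hcm]
        exact hf.bn_eq hp1 (hfix' c hcm)
      rw [hcond] at h
      simpa using h) h3
  rw [List.nil_append, List.map_fst_zip hlen.le] at hl
  have hb : ∀ x ∈ tget fixTab s a ++ tget freeTab s a, x < 256 := fun x hx => by
    rcases List.mem_append.1 hx with hx | hx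
    · exact hfix' x hx
    · exact hfree' x hx
  have hL : imgBits s a ((tget freeTab s a).map f) = bits8.map f := by
    rw [imgBits, ← hinv, List.map_map]
    refine List.map_congr_left fun i _ => ?_
    rw [Function.comp_apply, comb_map hf.toLin8 hb, List.map_append]
    congr 2
    exact ((List.map_congr_left fun c hcm => hfB c hcm).trans (List.map_id' _)).symm
  rw [leafOK, hL] at hl
  have hag : agree (fun k => comb (bits8.map f) (stdF s k)) (fun k => stdF s (comb (bits8.map f) k)) = true :=
    List.all_eq_true.2 fun k hk => by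
      have hk' := bits8_lt k hk
      show Nat.beq (comb (bits8.map f) (stdF s k)) (stdF s (comb (bits8.map f) k)) = true
      rw [← eq_comb_bits hf.toLin8 hk', ← eq_comb_bits hf.toLin8 ((stdF_lin hs).lt k hk'), hcomm k hk']
      exact Nat.beq_refl _
  rw [hag] at hl
  exact ⟨_, List.contains_iff_mem.1 (by simpa using hl), fun k hk => eq_comb_bits hf.toLin8 hk⟩

end Cfsg.Agent.Lib.Co1Weak71
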