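import Cfsg.Agent.Lib.Co1Weak71.Config
import Cfsg.Agent.Lib.Co1Weak71.Search
import Cfsg.Agent.Lib.Co1Weak71.Combi

/-!
# The weakly closed case of the Conway centraliser: the two subgroups meet trivially

Owner: helper71.
-/

set_option autoImplicit false
set_option maxRecDepth 100000

namespace Cfsg.Agent.Lib.Co1Weak71

open Cfsg.Agent.Lib.Co1Type31
open Cfsg.Agent.Lib.LargeExtraspecial.Basic

theorem zero_cases : ∀ s < 5, 0 ∈ As s → s = 0 ∨ s = 2 ∨ s = 3 := by decide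

theorem inM_zero_cases : ∀ k < 256, inM 0 k = true → k ∈ [0, 1, 4, 5] := by decide +kernel

theorem three_cover : ∀ k ∈ [1, 4, 5], ∀ k' ∈ [1, 4, 5], k ≠ k' →
    ∀ m ∈ [0, 1, 4, 5], m = 0 ∨ m = k ∨ m = k' ∨ m = k ^^^ k' := by decide +kernel

theorem code_make : ∀ a < 4, ∀ b < 4, ∀ c < 4, ∀ d < 4, a + 4 * b + 16 * c + 64 * d < 256 ∧
    cimg (a + 4 * b + 16 * c + 64 * d) = [1, 4, 16 ^^^ hv a, 32 ^^^ hv b, 64 ^^^ hv c, 128 ^^^ hv d] := by
  decide +kernel

theorem hv_cases : ∀ m ∈ [0, 1, 4, 5], ∃ a < 4, hv a = m := by decide +kernel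

/-- The code of a list of images. -/
def decC (l : List ℕ) : ℕ :=
  [0, 1, 4, 5].idxOf (l.getD 2 0 ^^^ 16) + 4 * [0, 1, 4, 5].idxOf (l.getD 3 0 ^^^ 32) +
    16 * [0, 1, 4, 5].idxOf (l.getD 4 0 ^^^ 64) + 64 * [0, 1, 4, 5].idxOf (l.getD 5 0 ^^^ 128)

theorem decC_cimg : ∀ c < 256, decC (cimg c) = c := by decide +kernel

theorem hv_xor (a b : ℕ) : hv (a ^^^ b) = hv a ^^^ hv b := comb_xor _ a b

theorem cimg_xor (c c' : ℕ) : cimg (c ^^^ c') =
    [1, 4, (16 ^^^ hv (c &&& 3)) ^^^ hv (c' &&& 3), (32 ^^^ hv ((c >>> 2) &&& 3)) ^^^ hv ((c' >>> 2) &&& 3),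
      (64 ^^^ hv ((c >>> 4) &&& 3)) ^^^ hv ((c' >>> 4) &&& 3),
      (128 ^^^ hv ((c >>> 6) &&& 3)) ^^^ hv ((c' >>> 6) &&& 3)] := by
  simp only [cimg, Nat.shiftRight_xor_distrib, Nat.and_xor_distrib_right, hv_xor, Nat.xor_assoc]

theorem comb_mem {S : ℕ → Prop} (h0 : S 0) (hx : ∀ a b, S a → S b → S (a ^^^ b)) :
    ∀ {l : List ℕ}, (∀ x ∈ l, S x) → ∀ i, S (comb l i)
  | [], _, _ => h0
  | x :: r, h, i => by
    rw [comb]
    refine hx _ _ ?_ (comb_mem h0 hx (fun y hy => h y (List.mem_cons_of_mem _ hy)) _)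
    cases Nat.beq (i &&& 1) 1
    · exact h0
    · exact h x (List.mem_cons_self ..)

/-- The only nonzero set of codes closed under sums and the action is the set of all codes. -/
theorem codes_all {S : ℕ → Prop} (h0 : S 0) (hx : ∀ a b, S a → S b → S (a ^^^ b))
    (hact : ∀ i < 3, ∀ x < 256, S x → S (actI i x)) {x₀ : ℕ} (hx₀ : x₀ < 256) (hne : x₀ ≠ 0) (hS : S x₀) :
    ∀ x < 256, S x := by
  have hr : ∀ (l : List (ℕ × ℕ)) (acc : List ℕ), reachOK l acc = true → (∀ y ∈ acc, S y → S target) →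
      ∀ p ∈ l, S p.1 → S target := by
    intro l
    induction l with
    | nil => intro _ _ _ p hp; exact absurd hp List.not_mem_nil
    | cons q r ih =>
      obtain ⟨x, md⟩ := q
      intro acc h hacc p hp hSp
      simp only [reachOK, Bool.and_eq_true, decide_eq_true_eq] at h
      obtain ⟨⟨⟨hmem, hx256⟩, hmd⟩, hrest⟩ := h
      have hthis : S x → S target := fun hSx => by
        obtain ⟨y, hy, hye⟩ := List.any_eq_true.1 hmem
        refine hacc y hy ?_
        rw [Nat.eq_of_beq_eq_true hye, step]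
        have ha := hact (md / 2) (by omega) x hx256 hSx
        cases Nat.beq (md % 2) 1
        · exact ha
        · exact hx _ _ hSx ha
      rcases List.mem_cons.1 hp with rfl | hp'
      · exact hthis hSp
      · refine ih (x :: acc) hrest (fun y hy => ?_) p hp' hSp
        rcases List.mem_cons.1 hy with rfl | hy'
        · exact hthis
        · exact hacc y hy'
  have htg : S target := by
    have hc := List.all_eq_true.1 reach_cover x₀ (List.mem_range.2 hx₀)
    simp only [Bool.or_eq_true] at hc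
    rcases hc with (e | e) | e
    · exact absurd (Nat.eq_of_beq_eq_true e) hne
    · exact (Nat.eq_of_beq_eq_true e) ▸ hS
    · obtain ⟨p, hp, hpe⟩ := List.any_eq_true.1 e
      refine hr reach [target] reach_check (fun y hy hSy => ?_) p hp ?_
      · rw [List.mem_singleton] at hy
        exact hy ▸ hSy
      · rw [Nat.eq_of_beq_eq_true hpe]
        exact hS
  have ho : ∀ (l : List (ℕ × ℕ × ℕ)) (acc : List ℕ), orbitOK l acc = true →
      (∀ y ∈ acc, y < 256 ∧ S y) → ∀ y ∈ orbitPts, S y := by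
    intro l
    induction l with
    | nil =>
      intro acc h hacc y hy
      have h' : acc.reverse = orbitPts := of_decide_eq_true h
      rw [← h', List.mem_reverse] at hy
      exact (hacc y hy).2
    | cons q r ih =>
      obtain ⟨x, p, i⟩ := q
      intro acc h hacc
      simp only [orbitOK, Bool.and_eq_true, decide_eq_true_eq] at h
      obtain ⟨⟨⟨hmem, hi⟩, hxe⟩, hrest⟩ := h
      refine ih (x :: acc) hrest fun y hy => ?_
      rcases List.mem_cons.1 hy with rfl | hy'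
      · obtain ⟨p', hp', hpe⟩ := List.any_eq_true.1 hmem
        obtain ⟨hp256, hSp⟩ := hacc p' hp'
        rw [Nat.eq_of_beq_eq_true hpe] at hp256 hSp
        rw [← Nat.eq_of_beq_eq_true hxe]
        refine ⟨?_, hact i hi p hp256 hSp⟩
        have := List.all_eq_true.1 irr_check i (List.mem_range.2 hi)
        simp only [Bool.and_eq_true, List.all_eq_true, decide_eq_true_eq] at this
        exact (this.2 p (List.mem_range.2 hp256)).1
      · exact hacc y hy'
  have hpts : ∀ y ∈ orbitPts, S y := ho orbitW [target] orbit_check fun y hy => by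
    rw [List.mem_singleton] at hy
    exact hy ▸ ⟨by decide, htg⟩
  have hunit : ∀ j < 8, S (2 ^ j) := fun j hj => by
    rw [← Nat.eq_of_beq_eq_true (List.all_eq_true.1 unit_check j (List.mem_range.2 hj))]
    exact comb_mem h0 hx hpts _
  have hb : ∀ b ∈ bits8, ∃ j < 8, b = 2 ^ j := by decide
  exact ind8 h0 fun b hb' k _ hk => hx _ _ hk (by obtain ⟨j, hj, rfl⟩ := hb b hb'; exact hunit j hj)

variable {G : Type*} [Group G] {z : G} {Q : Subgroup G} {co : G → ℕ} {ac : G → ℕ → ℕ}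

/-- The image of the fixed space under an element of the second centraliser, as a code. -/
def HasCode (Q : Subgroup G) (z : G) (ac : G → ℕ → ℕ) (g : G) (c : ℕ) : Prop :=
  ∃ f, InP Q g f ∧ Commute f z ∧ (cbs 0).map (ac f) = cimg c

namespace Cfg

variable {g u : G} {s a : ℕ} (h : Cfg z Q co ac g u s a)
include h

/-- A word realised in the centraliser of both involutions moves the intersection. -/
theorem move {d : G} (hdP : InP Q g d) (hdQ : d ∈ Q) {w : List (ℕ × ℕ)} (hw : okWord w = true)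
    (hF : commF s w = true) (hchi : ChiPres s a (prs w)) (hfl : a ≠ 0 ∨ ¬ ∃ x, x * z * x⁻¹ = u * z) :
    ∃ c, Commute c z ∧ Commute c u ∧ (∀ k < 256, ac c k = prs w k) ∧ InP Q g (c * d * c⁻¹) ∧
      c * d * c⁻¹ ∈ Q ∧ co (c * d * c⁻¹) = prs w (co d) := by
  obtain ⟨c₀, hc₀, hk₀⟩ := h.frame.exists_prs hw
  obtain ⟨c, hcz, hcu, hck⟩ := h.stab hc₀ (fun k hk => by
      rw [hk₀ _ ((stdF_lin h.hs).lt k hk), hk₀ k hk, commF_spec h.hs hw hF hk])
    (fun i hi => by
      obtain ⟨i', hi', e, hp⟩ := hchi i hi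
      exact ⟨i', hi', e.trans (hk₀ _ (comb_fixed h.hs i).1).symm, hp⟩) hfl
  refine ⟨c, hcz, hcu, fun k hk => (hck k hk).trans (hk₀ k hk), h.inP_norm hcu hdP,
    h.frame.norm c hcz d hdQ, ?_⟩
  rw [h.frame.conj c hcz d hdQ, hck _ (h.frame.co_lt d hdQ), hk₀ _ (h.frame.co_lt d hdQ)]

theorem chiPres_zero {w : List (ℕ × ℕ)} (hw : okWord w = true) (hF : commF s w = true) :
    ChiPres s 0 (prs w) := by
  intro i _
  have hk := comb_fixed h.hs i
  obtain ⟨i', hi', e⟩ := exists_idx h.hs ((prs_lin hw).lt _ hk.1)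
    (by rw [← commF_spec h.hs hw hF hk.1, hk.2])
  exact ⟨i', hi', e, by rw [Nat.and_zero, Nat.and_zero]⟩

/-- Either the code lies in the moved space, or the element is trivial. -/
theorem D_inM {d : G} (hdP : InP Q g d) (hdQ : d ∈ Q) : inM s (co d) = true ∨ d = 1 := by
  obtain ⟨i, hi, hie⟩ := h.D_idx hdP hdQ
  have hr := List.all_eq_true.1 (List.all_eq_true.1 (List.all_eq_true.1 rad_check s (List.mem_range.2 h.hs))
    a h.ha) i hi
  have hperp : ((tget fixTab s a).all fun c => !bn (comb (cbs s) i) c) = true := by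
    refine List.all_eq_true.2 fun c hc => ?_
    obtain ⟨j, hj, hje⟩ := List.any_eq_true.1 (List.all_eq_true.1 (List.all_eq_true.1
      (List.all_eq_true.1 fixB_check s (List.mem_range.2 h.hs)) a h.ha) c hc)
    rw [← Nat.eq_of_beq_eq_true hje, ← hie, h.D_perp hdP hdQ hj]
    rfl
  rw [hperp, ← hie, h.qn_D hdP hdQ] at hr
  simp only [Bool.not_true, Bool.false_or, Bool.or_eq_true, Bool.and_eq_true] at hr
  rcases hr with e | ⟨hne, hmov⟩
  · exact Or.inl e
  · have hne' : a ≠ 0 := fun e => by rw [e] at hne; exact absurd hne (by decide)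
    obtain ⟨w, -, hw'⟩ := List.any_eq_true.1 hmov
    simp only [moves, Bool.and_eq_true] at hw'
    obtain ⟨⟨⟨⟨hw, hF⟩, hM⟩, hmv⟩, hchi⟩ := hw'
    obtain ⟨c, -, -, -, hP, hQ, hco⟩ := h.move hdP hdQ hw hF (chiOK_spec h.hs h.a_lt hw hchi) (Or.inl hne')
    obtain ⟨j, hj, hje⟩ := inM_iff h.hs hM
    have h1 := h.D_moved (h.inP_mul hP hdP) (mul_mem hQ hdQ) hj
      (by rw [h.frame.co_mul _ hQ _ hdQ, hco, hje]) (h.exists_conj_uz hne')
    have h2 : prs w (co d) = co d := by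
      rw [← hco, mul_eq_one_iff_eq_inv.1 h1, h.frame.co_inv hdQ]
    rw [h2, Nat.beq_refl] at hmv
    exact absurd hmv (by decide)

theorem D_inM' {d : G} (hdP : InP Q g d) (hdQ : d ∈ Q) : ∃ j < 256, co d = j ^^^ stdF s j := by
  rcases h.D_inM hdP hdQ with e | e
  · exact inM_iff h.hs e
  · exact ⟨0, by norm_num, by rw [e, h.frame.co_one, (stdF_lin h.hs).zero]; rfl⟩

theorem D_inM_bool {d : G} (hdP : InP Q g d) (hdQ : d ∈ Q) : inM s (co d) = true := by
  rcases h.D_inM hdP hdQ with e | e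
  · exact e
  · subst e
    rw [h.frame.co_one]
    have := List.all_eq_true.1 (List.all_eq_true.1 coverM_check s (List.mem_range.2 h.hs)) 0
      (mem_all8.2 (by norm_num))
    rwa [(stdF_lin h.hs).zero] at this

/-- The intersection is trivial for the third and fourth kinds. -/
theorem D_one_mid (hs : s = 2 ∨ s = 3) (ha : a = 0) (hno : ¬ ∃ x, x * z * x⁻¹ = u * z) {d : G}
    (hdP : InP Q g d) (hdQ : d ∈ Q) : d = 1 := by
  subst ha
  obtain ⟨j, hj, hje⟩ := h.D_inM' hdP hdQ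
  by_contra hd
  have hm0 : j ^^^ stdF s j ≠ 0 := fun e => hd (h.eq_one_of_co hdP hdQ (hje.trans e))
  have hs' : s ∈ [2, 3] := by rcases hs with rfl | rfl <;> decide
  have hW := List.all_eq_true.1 (List.all_eq_true.1 mW_check s hs') j (mem_all8.2 hj)
  rw [Bool.or_eq_true] at hW
  rcases hW with e | e
  · exact hm0 (Nat.eq_of_beq_eq_true e)
  obtain ⟨w, -, hw'⟩ := List.any_eq_true.1 e
  simp only [movesM, Bool.and_eq_true, Bool.not_eq_true'] at hw'
  obtain ⟨⟨⟨⟨hw, hF⟩, hne⟩, hb1⟩, hb2⟩ := hw'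
  obtain ⟨c, -, -, -, hP, hQ, hco⟩ := h.move hdP hdQ hw hF (h.chiPres_zero hw hF) (Or.inr hno)
  obtain ⟨q, hq, hqc⟩ := h.frame.co_surj j hj
  obtain ⟨r, hr, hrc⟩ := h.frame.co_surj (prs w j) ((prs_lin hw).lt j hj)
  obtain ⟨hxQ, hxc⟩ := h.comm_mem hq
  obtain ⟨hyQ, hyc⟩ := h.comm_mem hr
  rw [hqc] at hxc
  have hgm : prs w (j ^^^ stdF s j) = prs w j ^^^ stdF s (prs w j) := by
    rw [(prs_lin hw).add j hj _ ((stdF_lin h.hs).lt j hj), commF_spec h.hs hw hF hj]
  rw [hrc, ← hgm] at hyc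
  rw [hje] at hco
  set x := q * u * q⁻¹ * u with hx
  set y := r * u * r⁻¹ * u with hy
  set d' := c * d * c⁻¹ with hd'
  have hd1 : d = x * z := by
    rcases h.frame.co_eq hxQ hdQ (hxc.trans hje.symm) with e | e
    · rw [e] at hdP
      exact absurd (e.trans (h.comm_inP hdP)) hd
    · exact e
  have hd'1 : d' = y * z := by
    rcases h.frame.co_eq hyQ hQ (hyc.trans hco.symm) with e | e
    · exfalso
      rw [e] at hP
      have h1 : d' = 1 := e.trans (h.comm_inP hP)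
      have h2 : d = 1 := by
        calc d = c⁻¹ * d' * c := by rw [hd']; group
          _ = 1 := by rw [h1]; group
      exact hd h2
    · exact e
  have hqy : q * y * q⁻¹ = y := by
    rw [h.frame.comm_Q hq hyQ, hqc, hyc, hb1]
    exact mul_one y
  have hxy : Commute x y := by rw [h.frame.commute_Q hxQ hyQ, hxc, hyc]; exact hb2
  have hprod : d * d' = (q * r) * u * (q * r)⁻¹ * u := by
    calc d * d' = x * (z * y) * z := by rw [hd1, hd'1]; simp only [mul_assoc]
      _ = x * y * (z * z) := by rw [← (h.frame.commute_of_mem hyQ).eq]; simp only [mul_assoc]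
      _ = y * x := by rw [h.zz, mul_one, hxy.eq]
      _ = (q * y * q⁻¹) * x := by rw [hqy]
      _ = q * r * u * r⁻¹ * (u * (q⁻¹ * q)) * u * q⁻¹ * u := by rw [hx, hy]; group
      _ = (q * r) * u * (q * r)⁻¹ * u := by
        rw [inv_mul_cancel, mul_one, mul_assoc (q * r * u * r⁻¹) u u, h.uu, mul_one, mul_inv_rev]
        group
  have h1 := (hprod ▸ h.comm_inP (q := q * r) (hprod ▸ h.inP_mul hdP hP) : d * d' = 1)
  have h2 : co d' = co d := by rw [← inv_eq_of_mul_eq_one_right h1, h.frame.co_inv hdQ]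
  rw [hco, hje] at h2
  rw [h2, Nat.beq_refl] at hne
  exact absurd hne (by decide)

end Cfg

namespace Cfg

variable {g u : G}

/-- The first kind: the intersection covers the moved space. -/
theorem D_cover (h : Cfg z Q co ac g u 0 0) (hno : ¬ ∃ x, x * z * x⁻¹ = u * z) {d : G} (hdP : InP Q g d)
    (hdQ : d ∈ Q) (hd : d ≠ 1) : ∀ m ∈ [0, 1, 4, 5], ∃ e, InP Q g e ∧ e ∈ Q ∧ co e = m := by
  have hk0 : co d ≠ 0 := fun e => hd (h.eq_one_of_co hdP hdQ e)
  have hk : co d ∈ [1, 4, 5] := by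
    have := inM_zero_cases _ (h.frame.co_lt d hdQ) (h.D_inM_bool hdP hdQ)
    simpa [hk0] using this
  obtain ⟨w, -, hw'⟩ := List.any_eq_true.1 (List.all_eq_true.1 mW_zero_check _ hk)
  simp only [Bool.and_eq_true] at hw'
  obtain ⟨⟨hw, hF⟩, hne⟩ := hw'
  obtain ⟨c, -, -, -, hP, hQ, hco⟩ := h.move hdP hdQ hw hF (h.chiPres_zero hw hF) (Or.inr hno)
  have hne' : co d ≠ co (c * d * c⁻¹) := fun e => by
    rw [← hco, ← e, Nat.beq_refl] at hne
    exact absurd hne (by decide)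
  have hk' : co (c * d * c⁻¹) ∈ [1, 4, 5] := by
    have h0 : co (c * d * c⁻¹) ≠ 0 := fun e => by
      have h1 := h.eq_one_of_co hP hQ e
      exact hd (by calc d = c⁻¹ * (c * d * c⁻¹) * c := by group
        _ = 1 := by rw [h1]; group)
    have := inM_zero_cases _ (h.frame.co_lt _ hQ) (h.D_inM_bool hP hQ)
    simpa [h0] using this
  intro m hm
  rcases three_cover _ hk _ hk' hne' m hm with e | e | e | e
  · exact ⟨1, h.inP_one, one_mem Q, h.frame.co_one.trans e.symm⟩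
  · exact ⟨d, hdP, hdQ, e.symm⟩
  · exact ⟨_, hP, hQ, e.symm⟩
  · exact ⟨_, h.inP_mul hdP hP, mul_mem hdQ hQ, (h.frame.co_mul d hdQ _ hQ).trans e.symm⟩

section FirstKind

variable (h : Cfg z Q co ac g u 0 0) (hD : ∀ m ∈ [0, 1, 4, 5], ∃ e, InP Q g e ∧ e ∈ Q ∧ co e = m)
include h hD

theorem F_fix_M {f : G} (hfP : InP Q g f) (hfz : Commute f z) {m : ℕ} (hm : m ∈ [0, 1, 4, 5]) :
    ac f m = m := by
  obtain ⟨e, heP, heQ, rfl⟩ := hD m hm
  rw [← h.frame.conj f hfz e heQ, (h.F_comm_D hfP hfz heP heQ).eq, mul_inv_cancel_right]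

theorem F_fix_hv {f : G} (hfP : InP Q g f) (hfz : Commute f z) (x : ℕ) : ac f (hv x) = hv x := by
  rw [hv, comb_map (h.frame.iso hfz).toLin8 (by decide)]
  congr 1
  simp [F_fix_M h hD hfP hfz]

theorem F_code {f : G} (hfP : InP Q g f) (hfz : Commute f z) :
    ∃ c < 256, (cbs 0).map (ac f) = cimg c := by
  have key : ∀ j < 6, ∃ a < 4, ac f ((cbs 0).getD j 0) = (cbs 0).getD j 0 ^^^ hv a := by
    intro j hj
    have hi : 2 ^ j ∈ idxs 0 0 := mem_idxs.2 ⟨Nat.pow_lt_pow_right (by norm_num) hj, by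
      rw [Nat.and_zero]; rfl⟩
    have hb : comb (cbs 0) (2 ^ j) = (cbs 0).getD j 0 := (cbs_spec (s := 0) (by norm_num)).2.2.2.1 j hj
    obtain ⟨e, heQ, hec⟩ := h.frame.co_surj _ (comb_fixed (s := 0) (by norm_num) (2 ^ j)).1
    obtain ⟨hQ', hP', hco⟩ := h.F_comm_mem hfP hfz heQ (h.comm_of_idx heQ hi hec)
    rw [hec, hb] at hco
    obtain ⟨a, ha, hae⟩ := hv_cases _ (inM_zero_cases _ (h.frame.co_lt _ hQ') (h.D_inM_bool hP' hQ'))
    refine ⟨a, ha, ?_⟩
    rw [hae, hco, Nat.xor_comm _ ((cbs 0).getD j 0), ← Nat.xor_assoc, Nat.xor_self, Nat.zero_xor]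
  obtain ⟨a, ha, ea⟩ := key 2 (by norm_num)
  obtain ⟨b, hb, eb⟩ := key 3 (by norm_num)
  obtain ⟨c, hc, ec⟩ := key 4 (by norm_num)
  obtain ⟨d, hd, ed⟩ := key 5 (by norm_num)
  obtain ⟨hlt, he⟩ := code_make a ha b hb c hc d hd
  refine ⟨_, hlt, ?_⟩
  rw [he, ← F_fix_M h hD hfP hfz (m := 1) (by decide), ← F_fix_M h hD hfP hfz (m := 4) (by decide)]
  rw [show cbs 0 = [1, 4, 16, 32, 64, 128] from rfl] at ea eb ec ed ⊢
  simp only [List.getD_cons_succ, List.getD_cons_zero] at ea eb ec ed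
  simp only [List.map_cons, List.map_nil, ea, eb, ec, ed]

theorem hasCode_xor {c c' : ℕ} (hc : HasCode Q z ac g c) (hc' : HasCode Q z ac g c') :
    HasCode Q z ac g (c ^^^ c') := by
  obtain ⟨f, hfP, hfz, hf⟩ := hc
  obtain ⟨f', hfP', hfz', hf'⟩ := hc'
  refine ⟨f * f', h.inP_mul hfP hfP', hfz.mul_left hfz', ?_⟩
  have hb : ∀ b ∈ cbs 0, b < 256 := cbs_lt (by norm_num)
  rw [List.map_congr_left fun b hb' => h.frame.ac_mul hfz hfz' (hb b hb'),
    show (fun b => ac f (ac f' b)) = ac f ∘ ac f' from rfl, ← List.map_map, hf', cimg_xor]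
  rw [show cbs 0 = [1, 4, 16, 32, 64, 128] from rfl, cimg] at hf
  simp only [List.map_cons, List.map_nil, List.cons.injEq, and_true] at hf
  obtain ⟨h1, h4, h16, h32, h64, h128⟩ := hf
  have hl : ∀ x, hv x < 256 := fun x => comb_lt (by decide) x
  have hs : ∀ k < 256, ∀ x, ac f (k ^^^ hv x) = ac f k ^^^ hv x := fun k hk x => by
    rw [h.frame.ac_xor hfz hk (hl x), F_fix_hv h hD hfP hfz]
  simp only [cimg, List.map_cons, List.map_nil, h1, h4, hs 16 (by norm_num), hs 32 (by norm_num),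
    hs 64 (by norm_num), hs 128 (by norm_num), h16, h32, h64, h128]

theorem hasCode_act (hno : ¬ ∃ x, x * z * x⁻¹ = u * z) {i x : ℕ} (hi : i < 3) (hx : x < 256)
    (hc : HasCode Q z ac g x) : HasCode Q z ac g (actI i x) := by
  obtain ⟨f, hfP, hfz, hf⟩ := hc
  have hirr := List.all_eq_true.1 irr_check i (List.mem_range.2 hi)
  simp only [Bool.and_eq_true, List.all_eq_true, decide_eq_true_eq] at hirr
  obtain ⟨⟨⟨hw, hF⟩, hpre⟩, hT⟩ := hirr
  obtain ⟨c₀, hc₀, hk₀⟩ := h.frame.exists_prs hw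
  obtain ⟨c, hcz, hcu, hck⟩ := h.stab hc₀ (fun k hk => by
      rw [hk₀ _ ((stdF_lin h.hs).lt k hk), hk₀ k hk, commF_spec h.hs hw hF hk])
    (fun i' hi' => by
      obtain ⟨j, hj, e, hp⟩ := h.chiPres_zero hw hF i' hi'
      exact ⟨j, hj, e.trans (hk₀ _ (comb_fixed h.hs i').1).symm, hp⟩) (Or.inr hno)
  have hfP' := h.inP_norm hcu hfP
  have hfz' : Commute (c * f * c⁻¹) z := (hcz.mul_left hfz).mul_left hcz.inv_left
  refine ⟨c * f * c⁻¹, hfP', hfz', ?_⟩
  have key : ∀ j ∈ [0, 1, 2, 3], ac (c * f * c⁻¹) ((cbs 0).getD (2 + j) 0) =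
      (cimg (actI i x)).getD (2 + j) 0 := by
    intro j hj
    set k := (irrPre.getD i []).getD j 0 with hk
    obtain ⟨-, hpe⟩ := hpre j hj
    have hpe' := Nat.eq_of_beq_eq_true hpe
    have hke : prs (irrW.getD i []) (comb (cbs 0) k) = (cbs 0).getD (2 + j) 0 := hpe'
    have hklt := (comb_fixed (s := 0) (by norm_num) k).1
    have hlt : (cbs 0).getD (2 + j) 0 < 256 := hke ▸ (prs_lin hw).lt _ hklt
    have hinv : ac c⁻¹ ((cbs 0).getD (2 + j) 0) = comb (cbs 0) k := by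
      rw [← hke, ← hk₀ _ hklt, ← hck _ hklt, h.frame.ac_inv hcz hklt]
    rw [h.frame.ac_conj hfz hcz hlt, hinv, comb_map (h.frame.iso hfz).toLin8 (cbs_lt (by norm_num)), hf]
    have hlt2 : comb (cimg x) k < 256 := by
      rw [← hf, ← comb_map (h.frame.iso hfz).toLin8 (cbs_lt (by norm_num))]
      exact h.frame.ac_lt hfz hklt
    rw [hck _ hlt2, hk₀ _ hlt2]
    exact Nat.eq_of_beq_eq_true ((hT x (List.mem_range.2 hx)).2 j hj)
  have e0 := key 0 (by decide)
  have e1 := key 1 (by decide)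
  have e2 := key 2 (by decide)
  have e3 := key 3 (by decide)
  rw [show cbs 0 = [1, 4, 16, 32, 64, 128] from rfl] at e0 e1 e2 e3 ⊢
  simp only [cimg, List.getD_cons_succ, List.getD_cons_zero] at e0 e1 e2 e3
  simp only [cimg, List.map_cons, List.map_nil, e0, e1, e2, e3,
    F_fix_M h hD hfP' hfz' (m := 1) (by decide), F_fix_M h hD hfP' hfz' (m := 4) (by decide)]

variable [Finite G]

theorem exists_code {v : G} {t b : ℕ} (h' : Cfg z Q co ac g⁻¹ v t b) :
    ∃ c < 256, c ≠ 0 ∧ HasCode Q z ac g c := by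
  classical
  by_contra hno
  have hzero : ∀ f, InP Q g f → Commute f z → (cbs 0).map (ac f) = cimg 0 := fun f hfP hfz => by
    obtain ⟨c, hc, e⟩ := F_code h hD hfP hfz
    rcases eq_or_ne c 0 with rfl | hne
    · exact e
    · exact absurd ⟨c, hc, hne, f, hfP, hfz, e⟩ hno
  obtain ⟨T, hT, hTm⟩ := h.sixteen h'
  have hB : ∀ c ∈ tget fixTab 0 0, ∃ i ∈ idxs 0 0, comb (cbs 0) i = c := fun c hc => by
    obtain ⟨i, hi, hie⟩ := List.any_eq_true.1 (List.all_eq_true.1 (List.all_eq_true.1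
      (List.all_eq_true.1 fixB_check 0 (List.mem_range.2 (by norm_num))) 0 h.ha) c hc)
    exact ⟨i, hi, Nat.eq_of_beq_eq_true hie⟩
  have hex : ∀ f ∈ T, ∃ L ∈ surv 0 0, ∀ k < 256, ac f k = comb L k := fun f hf => by
    obtain ⟨hfP, hfz⟩ := hTm f hf
    refine surv_mem h.hs h.ha (h.frame.iso hfz) (fun i _ => ?_) hB (h.F_iso hfP hfz).2
    rw [comb_map (h.frame.iso hfz).toLin8 (cbs_lt h.hs), hzero f hfP hfz,
      show cimg 0 = cbs 0 from by decide +kernel]
  choose! L hL hLk using hex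
  let rep : List ℕ → G := fun l => if hl : ∃ f ∈ T, L f = l then hl.choose else 1
  have hrep : ∀ f ∈ T, InP Q g ((rep (L f))⁻¹ * f) ∧ (rep (L f))⁻¹ * f ∈ Q := fun f hf => by
    have hl : ∃ f' ∈ T, L f' = L f := ⟨f, hf, rfl⟩
    obtain ⟨hr, hrl⟩ := hl.choose_spec
    have e : rep (L f) = hl.choose := dif_pos hl
    rw [e]
    exact h.F_quot (hTm _ hr).1 (hTm _ hr).2 (hTm f hf).1 (hTm f hf).2 fun k hk => by
      rw [hLk _ hr k hk, hLk f hf k hk, hrl]
  let φ : G → List ℕ × ℕ := fun f => (L f, co ((rep (L f))⁻¹ * f))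
  have hcard : ((surv 0 0).toFinset ×ˢ ([0, 1, 4, 5] : List ℕ).toFinset).card < T.card := by
    rw [Finset.card_product]
    have h1 := List.toFinset_card_le (surv 0 0)
    have h2 := List.toFinset_card_le ([0, 1, 4, 5] : List ℕ)
    have h3 : (surv 0 0).length ≤ 2 := Nat.le_of_ble_eq_true kernel_check
    have := Nat.mul_le_mul (h1.trans h3) h2
    simp only [List.length_cons, List.length_nil] at this
    omega
  obtain ⟨f, hf, f', hf', hne, e⟩ := Finset.exists_ne_map_eq_of_card_lt_of_maps_to (f := φ) hcard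
    (fun f hf => Finset.mem_coe.2 (Finset.mem_product.2 ⟨List.mem_toFinset.2 (hL f hf),
      List.mem_toFinset.2 (inM_zero_cases _ (h.frame.co_lt _ (hrep f hf).2)
        (h.D_inM_bool (hrep f hf).1 (hrep f hf).2))⟩))
  obtain ⟨eL, ec⟩ := Prod.mk.inj e
  have h1 := hrep f hf
  have h2 := hrep f' hf'
  rw [← eL] at h2 ec
  exact hne (mul_left_cancel (h.co_inj_D h1.1 h1.2 h2.1 h2.2 ec))

theorem no_first (hno : ¬ ∃ x, x * z * x⁻¹ = u * z) {v : G} {t b : ℕ} (h' : Cfg z Q co ac g⁻¹ v t b) :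
    False := by
  classical
  obtain ⟨x₀, hx₀, hne, hS⟩ := exists_code h hD h'
  have h0 : HasCode Q z ac g 0 := ⟨1, h.inP_one, Commute.one_left z, by
    rw [List.map_congr_left fun b hb => h.frame.ac_Q (one_mem Q) (cbs_lt h.hs b hb)]
    rw [List.map_id', show cimg 0 = cbs 0 from by decide +kernel]⟩
  have hall := codes_all (S := HasCode Q z ac g) h0 (fun _ _ => hasCode_xor h hD)
    (fun _ hi _ hx => hasCode_act h hD hno hi hx) hx₀ hne hS
  choose f hfP hfz hf using fun c : Fin 256 => hall c c.2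
  have hm : ∀ j : Fin 4, [0, 1, 4, 5].getD j 0 ∈ [0, 1, 4, 5] := by decide
  choose d hdP hdQ hd using fun j : Fin 4 => hD _ (hm j)
  let φ : Fin 256 × Fin 4 → Q := fun p => ⟨g⁻¹ * (f p.1 * d p.2) * g, h.inP_mul (hfP p.1) (hdP p.2)⟩
  have hφ : Function.Injective φ := by
    rintro ⟨c, j⟩ ⟨c', j'⟩ e
    have e' : f c * d j = f c' * d j' := mul_left_cancel (mul_right_cancel (congrArg Subtype.val e))
    have hmap : ∀ c j, (cbs 0).map (ac (f c * d j)) = cimg c := fun c j => by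
      rw [← hf c]
      refine List.map_congr_left fun k hk => ?_
      have hk' := cbs_lt h.hs k hk
      rw [h.frame.ac_mul (hfz c) (h.frame.commute_of_mem (hdQ j)) hk', h.frame.ac_Q (hdQ j) hk']
    have hcc : c = c' := Fin.ext (by
      have := congrArg (fun y => decC ((cbs 0).map (ac y))) e'
      simp only [hmap] at this
      rwa [decC_cimg _ c.2, decC_cimg _ c'.2] at this)
    subst hcc
    have hdd : [0, 1, 4, 5].getD (j : ℕ) 0 = [0, 1, 4, 5].getD (j' : ℕ) 0 := by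
      rw [← hd j, ← hd j', mul_left_cancel e']
    have hinj : ∀ i i' : Fin 4, [0, 1, 4, 5].getD (i : ℕ) 0 = [0, 1, 4, 5].getD (i' : ℕ) 0 → i = i' := by
      decide
    rw [hinj j j' hdd]
  have := Nat.card_le_card_of_injective φ hφ
  rw [Nat.card_prod, Nat.card_fin, Nat.card_fin, h.frame.card] at this
  omega

end FirstKind

variable [Finite G]

/-- The two subgroups meet trivially. -/
theorem D_one {s a : ℕ} (h : Cfg z Q co ac g u s a) {v : G} {t b : ℕ} (h' : Cfg z Q co ac g⁻¹ v t b)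
    {d : G} (hdP : InP Q g d) (hdQ : d ∈ Q) : d = 1 := by
  obtain ⟨j, hj, hje⟩ := h.D_inM' hdP hdQ
  by_cases hconj : ∃ x, x * z * x⁻¹ = u * z
  · exact h.D_moved hdP hdQ hj hje hconj
  · have ha : a = 0 := by
      by_contra hne
      exact hconj (h.exists_conj_uz hne)
    subst ha
    rcases zero_cases s h.hs h.ha with rfl | rfl | rfl
    · by_contra hd
      exact no_first h (h.D_cover hconj hdP hdQ hd) hconj h'
    · exact h.D_one_mid (Or.inl rfl) rfl hconj hdP hdQ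
    · exact h.D_one_mid (Or.inr rfl) rfl hconj hdP hdQ

end Cfg

end Cfsg.Agent.Lib.Co1Weak71
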