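import Cfsg.Agent.Lib.Co1Weak71.Rank

/-!
# The weakly closed case of the Conway centraliser does not occur

Owner: helper71.
-/

set_option autoImplicit false
set_option maxRecDepth 100000

namespace Cfsg.Agent.Lib.Co1Weak71

open Cfsg.Agent.Lib.Co1Type31
open Cfsg.Agent.Lib.LargeExtraspecial.Basic

theorem qn_moved : [2, 3].all (fun t => all8.all fun k => !qn (k ^^^ stdF t k)) = true := by decide +kernel

theorem four_basis : ∀ i < 8, qn (comb (cbs 4) i) = false ∧ (i = 0 ∨ comb (cbs 4) i ≠ 0) := by decide +kernel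

theorem as_four : As 4 = [8] := rfl

theorem as_two_three : ∀ t, t = 2 ∨ t = 3 → As t = [0] := by rintro t (rfl | rfl) <;> rfl

theorem group_spec {s : ℕ} (hs : s = 2 ∨ s = 3) :
    (surv s 0).length = 64 ∧ (∀ k < 256, act2 s uIdx k = stdF s k) ∧
      ∀ i < 64, ∀ j < 64, ∀ k < 256, act2 s i (act2 s j k) = act2 s (i ^^^ j) k := by
  have hs' : s ∈ [2, 3] := by rcases hs with rfl | rfl <;> decide
  have hs5 : s < 5 := by omega
  have h := List.all_eq_true.1 group_check s hs'
  simp only [Bool.and_eq_true, decide_eq_true_eq] at h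
  obtain ⟨⟨hlen, hU⟩, hmul⟩ := h
  have hlin : ∀ i < 64, Lin8 (act2 s i) := fun i hi => by
    refine surv_spec hs5 (a := 0) (by rw [as_two_three s hs]; exact List.mem_singleton.2 rfl) ?_
    rw [List.getD_eq_getElem _ _ (hlen ▸ hi)]
    exact List.getElem_mem _
  refine ⟨hlen, fun k hk => (hlin uIdx (by decide)).ext (stdF_lin hs5) hU k hk, fun i hi j hj k hk => ?_⟩
  exact ((hlin i hi).comp (hlin j hj)).ext (hlin _ (Nat.xor_lt_two_pow (n := 6) hi hj))
    (List.all_eq_true.1 (List.all_eq_true.1 hmul i (List.mem_range.2 hi)) j (List.mem_range.2 hj)) k hk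

variable {G : Type*} [Group G] [Finite G] {z : G} {Q : Subgroup G} {co : G → ℕ} {ac : G → ℕ → ℕ}

namespace Cfg

variable {g u v : G} {s a t b : ℕ} (h : Cfg z Q co ac g u s a) (h' : Cfg z Q co ac g⁻¹ v t b)
include h h'

/-- A commutator gives an element of the second centraliser fixing sixteen codes. -/
theorem good_comm {q : G} (hq : q ∈ Q) {k : ℕ} (hqc : co q = k) (hm : k ^^^ stdF t k ≠ 0)
    (hs : qn (k ^^^ stdF t k) = false) {e : Bool} (he : e = true → ∃ y, y * z * y⁻¹ = v * z) :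
    InP Q g (g * (q * v * q⁻¹ * v * pw z e) * g⁻¹) ∧ Commute (g * (q * v * q⁻¹ * v * pw z e) * g⁻¹) z ∧
      fixN (ac (g * (q * v * q⁻¹ * v * pw z e) * g⁻¹)) = 16 := by
  obtain ⟨hxQ, hxc⟩ := h'.comm_mem hq
  rw [hqc] at hxc
  have hpQ : pw z e ∈ Q := by
    cases e
    · exact one_mem Q
    · exact h.frame.es.mem
  set x := q * v * q⁻¹ * v with hx
  have hxx : x * x = 1 := by rw [h.frame.sq x hxQ, hxc, hs]; rfl
  have hxv : Commute x v := by
    have e1 : v * x * v = x := by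
      calc v * x * v = v * q * v * q⁻¹ * (v * v) := by rw [hx]; group
        _ = x⁻¹ := by rw [h'.uu, mul_one, hx]; simp only [mul_inv_rev, inv_inv, h'.uinv, mul_assoc]
        _ = x := inv_eq_of_mul_eq_one_right hxx
    calc x * v = v * x * v * v := by rw [e1]
      _ = v * x := by rw [mul_assoc, h'.uu, mul_one]
  have hXv : Commute (x * pw z e) v := hxv.mul_left (h'.commute_pw h'.hc e).symm
  obtain ⟨hP, hz⟩ := h.transfer (mul_mem hxQ hpQ) h' hXv
  refine ⟨hP, hz, ?_⟩
  set f := g * (x * pw z e) * g⁻¹ with hf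
  have hqz : Commute q z := h.frame.commute_of_mem hq
  obtain ⟨y, hy⟩ : ∃ y, y * z * y⁻¹ = x * pw z e * v := by
    cases e with
    | false =>
      refine ⟨q * g⁻¹, ?_⟩
      rw [show pw z false = 1 from rfl, mul_one, hx, mul_assoc (q * v * q⁻¹) v v, h'.uu, mul_one, h'.hu]
      group
    | true =>
      obtain ⟨w, hw⟩ := he rfl
      refine ⟨q * w, ?_⟩
      rw [show pw z true = z from rfl, mul_assoc x z v, ← h'.hc.eq, hx, ← mul_assoc (q * v * q⁻¹ * v) v z,
        mul_assoc (q * v * q⁻¹) v v, h'.uu, mul_one]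
      calc q * w * z * (q * w)⁻¹ = q * v * (z * q⁻¹) := by
            rw [show q * w * z * (q * w)⁻¹ = q * (w * z * w⁻¹) * q⁻¹ by group, hw]; group
        _ = q * v * q⁻¹ * z := by rw [← hqz.inv_left.eq]; group
  have hfz : f * z = (g * y) * z * (g * y)⁻¹ := by
    calc f * z = g * (x * pw z e) * (g⁻¹ * z * g⁻¹⁻¹) * g⁻¹ := by rw [hf]; group
      _ = g * (y * z * y⁻¹) * g⁻¹ := by rw [hy, h'.hu]; simp only [mul_assoc]
      _ = _ := by group
  have hne : f * z ≠ z := fun e' => by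
    have hf1 : f = 1 := mul_eq_right.1 e'
    have h1 : x * pw z e = 1 := by
      calc x * pw z e = g⁻¹ * f * g := by rw [hf]; group
        _ = 1 := by rw [hf1]; group
    have hco := congrArg co h1
    rw [h.frame.co_mul _ hxQ _ hpQ, h.frame.co_one, hxc] at hco
    refine hm ?_
    cases e
    · rwa [show pw z false = 1 from rfl, h.frame.co_one, Nat.xor_zero] at hco
    · rwa [show pw z true = z from rfl, h.frame.co_z, Nat.xor_zero] at hco
  have hfix := fixN_conjugate h.frame h.wc (g * y) (hfz ▸ hz.mul_left (Commute.refl z)) (hfz ▸ hne)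
  rw [← hfz] at hfix
  rw [← hfix]
  exact fixN_congr fun k hk => by rw [h.frame.ac_mul hz (Commute.refl z) hk, h.ac_z hk]

/-- An element of `Q` over the singular part of the moved space, last kind on that side. -/
theorem good_four (ht : t = 4) {x : G} (hx : x ∈ Q) {i : ℕ} (hi : i < 8) (hne : i ≠ 0)
    (hxc : co x = comb (cbs 4) i) :
    InP Q g (g * x * g⁻¹) ∧ Commute (g * x * g⁻¹) z ∧ fixN (ac (g * x * g⁻¹)) = 16 ∧
      fixN (ac (g * x * g⁻¹ * u)) = 16 := by
  subst ht
  have hb : b ≠ 0 := by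
    have := h'.ha
    rw [as_four, List.mem_singleton] at this
    omega
  obtain ⟨hq0, hne0⟩ := four_basis i hi
  have hM : inM 4 (comb (cbs 4) i) = true :=
    List.any_eq_true.2 ⟨i, List.mem_range.2 (lt_of_lt_of_le hi (by decide)), Nat.beq_refl _⟩
  obtain ⟨k, hk, hke⟩ := inM_iff (by norm_num) hM
  obtain ⟨q, hq, hqc⟩ := h.frame.co_surj k hk
  obtain ⟨hyQ, hyc⟩ := h'.comm_mem hq
  have hgen : ∀ x' ∈ Q, co x' = comb (cbs 4) i →
      InP Q g (g * x' * g⁻¹) ∧ Commute (g * x' * g⁻¹) z ∧ fixN (ac (g * x' * g⁻¹)) = 16 := by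
    intro x' hx' hxc'
    have hgc := fun e => h.good_comm h' hq hqc (e := e) (hke ▸ hne0.resolve_left hne) (hke ▸ hq0)
      (fun _ => h'.exists_conj_uz hb)
    rcases h.frame.co_eq hyQ hx' (by rw [hyc, hqc, hxc', hke]) with e | e
    · have := hgc false
      rwa [show pw z false = 1 from rfl, mul_one, ← e] at this
    · have := hgc true
      rwa [show pw z true = z from rfl, ← e] at this
  obtain ⟨h1, h2, h3⟩ := hgen x hx hxc
  refine ⟨h1, h2, h3, ?_⟩
  obtain ⟨-, -, h4⟩ := hgen (x * z) (mul_mem hx h.frame.es.mem) (by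
    rw [h.frame.co_mul x hx z h.frame.es.mem, h.frame.co_z, Nat.xor_zero, hxc])
  rwa [show g * (x * z) * g⁻¹ = g * x * g⁻¹ * u by rw [h.hu]; group] at h4

theorem idx_exists (hs : s = 2 ∨ s = 3) {f : G} (hfP : InP Q g f) (hfz : Commute f z) :
    ∃ i < 64, ∀ k < 256, ac f k = act2 s i k := by
  have ha : a = 0 := by
    have := h.ha
    rwa [as_two_three s hs, List.mem_singleton] at this
  subst ha
  obtain ⟨L, hL, hLk⟩ := h.F_surv h' hfP hfz
  obtain ⟨i, hi, rfl⟩ := List.getElem_of_mem hL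
  refine ⟨i, (group_spec hs).1 ▸ hi, fun k hk => ?_⟩
  rw [hLk k hk, act2, List.getD_eq_getElem _ _ hi]

theorem idx_mul (hs : s = 2 ∨ s = 3) {f f' : G} (hfz : Commute f z) (hfz' : Commute f' z) {i j : ℕ}
    (hi : i < 64) (hj : j < 64) (ei : ∀ k < 256, ac f k = act2 s i k) (ej : ∀ k < 256, ac f' k = act2 s j k) :
    ∀ k < 256, ac (f * f') k = act2 s (i ^^^ j) k := fun k hk => by
  rw [h.frame.ac_mul hfz hfz' hk, ej k hk, ei _ (by rw [← ej k hk]; exact h.frame.ac_lt hfz' hk),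
    (group_spec hs).2.2 i hi j hj k hk]

theorem good_idx (hs : s = 2 ∨ s = 3) {f : G} (hfix : fixN (ac f) = 16) {i : ℕ} (hi : i < 64)
    (ei : ∀ k < 256, ac f k = act2 s i k) : good s i = true := by
  have hs' : s ∈ [2, 3] := by rcases hs with rfl | rfl <;> decide
  have := List.all_eq_true.1 (List.all_eq_true.1 good_check s hs') i (List.mem_range.2 hi)
  rwa [← fixN_congr ei, hfix, Nat.beq_refl, Bool.not_true, Bool.false_or] at this

/-- Second or third kind against the last. -/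
theorem not_mid_four (hs : s = 2 ∨ s = 3) (ht : t = 4) : False := by
  have lt4 : ∀ i, comb (cbs 4) i < 256 := fun i => (comb_fixed (by norm_num) i).1
  obtain ⟨x, hx, hxc⟩ := h.frame.co_surj _ (lt4 1)
  obtain ⟨y, hy, hyc⟩ := h.frame.co_surj _ (lt4 2)
  obtain ⟨w, hw, hwc⟩ := h.frame.co_surj _ (lt4 4)
  have key : ∀ r ∈ Q, ∀ i, co r = comb (cbs 4) i → i < 8 → i ≠ 0 → ∀ j < 64,
      (∀ k < 256, ac (g * r * g⁻¹) k = act2 s j k) → j ∈ both s := by
    intro r hr i hrc hi hne j hj ej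
    obtain ⟨hP, hz, h1, h2⟩ := h.good_four h' ht hr hi hne hrc
    refine List.mem_filter.2 ⟨List.mem_range.2 hj, ?_⟩
    rw [Bool.and_eq_true]
    exact ⟨h.good_idx h' hs h1 hj ej, h.good_idx h' hs h2 (Nat.xor_lt_two_pow (n := 6) hj (by decide))
      (h.idx_mul h' hs hz h.hc hj (by decide) ej
        fun k hk => (h.act k hk).trans ((group_spec hs).2.1 k hk).symm)⟩
  obtain ⟨hxP, hxz, -, -⟩ := h.good_four h' ht hx (i := 1) (by norm_num) (by norm_num) hxc
  obtain ⟨hyP, hyz, -, -⟩ := h.good_four h' ht hy (i := 2) (by norm_num) (by norm_num) hyc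
  obtain ⟨hwP, hwz, -, -⟩ := h.good_four h' ht hw (i := 4) (by norm_num) (by norm_num) hwc
  obtain ⟨a', ha', ea⟩ := h.idx_exists h' hs hxP hxz
  obtain ⟨b', hb', eb⟩ := h.idx_exists h' hs hyP hyz
  obtain ⟨c', hc', ec⟩ := h.idx_exists h' hs hwP hwz
  have xlt : ∀ {i j}, i < 64 → j < 64 → i ^^^ j < 64 := fun hi hj => Nat.xor_lt_two_pow (n := 6) hi hj
  have hmul : ∀ p q : G, g * p * g⁻¹ * (g * q * g⁻¹) = g * (p * q) * g⁻¹ := fun p q => by group
  have exy := h.idx_mul h' hs hxz hyz ha' hb' ea eb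
  have exw := h.idx_mul h' hs hxz hwz ha' hc' ea ec
  have eyw := h.idx_mul h' hs hyz hwz hb' hc' eb ec
  have exyw := h.idx_mul h' hs (hxz.mul_left hyz) hwz (xlt ha' hb') hc' exy ec
  rw [hmul] at exy exw eyw exyw
  rw [hmul] at exyw
  have hco : ∀ p ∈ Q, ∀ q ∈ Q, ∀ i j, co p = comb (cbs 4) i → co q = comb (cbs 4) j →
      co (p * q) = comb (cbs 4) (i ^^^ j) := fun p hp q hq i j e e' => by
    rw [h.frame.co_mul p hp q hq, e, e', comb_xor]
  have h3 := hco x hx y hy _ _ hxc hyc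
  have h5 := hco x hx w hw _ _ hxc hwc
  have h6 := hco y hy w hw _ _ hyc hwc
  have h7 := hco _ (mul_mem hx hy) w hw _ _ h3 hwc
  have ma := key x hx 1 hxc (by norm_num) (by norm_num) a' ha' ea
  have mb := key y hy 2 hyc (by norm_num) (by norm_num) b' hb' eb
  have mc := key w hw 4 hwc (by norm_num) (by norm_num) c' hc' ec
  have mab := key _ (mul_mem hx hy) _ h3 (by decide) (by decide) _ (xlt ha' hb') exy
  have mac := key _ (mul_mem hx hw) _ h5 (by decide) (by decide) _ (xlt ha' hc') exw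
  have mbc := key _ (mul_mem hy hw) _ h6 (by decide) (by decide) _ (xlt hb' hc') eyw
  have mabc := key _ (mul_mem (mul_mem hx hy) hw) _ h7 (by decide) (by decide) _ (xlt (xlt ha' hb') hc') exyw
  have hs' : s ∈ [2, 3] := by rcases hs with rfl | rfl <;> decide
  have hchk := List.all_eq_true.1 (List.all_eq_true.1 (List.all_eq_true.1 triple_check s hs') _ ma) _ mb
  have hany : ∀ i ∈ both s, ((both s).any fun x => Nat.beq x i) = true := fun i hi =>
    List.any_eq_true.2 ⟨i, hi, Nat.beq_refl i⟩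
  rw [hany _ mab, Bool.not_true, Bool.false_or] at hchk
  have := List.all_eq_true.1 hchk _ mc
  rw [hany _ mac, hany _ mbc, hany _ mabc] at this
  exact absurd this (by decide)

omit h in
theorem comm_prod {q r : G} (hq : q ∈ Q) (hr : r ∈ Q) :
    (q * r) * v * (q * r)⁻¹ * v =
      r * v * r⁻¹ * v * (q * v * q⁻¹ * v) * pw z (bn (co q) (co r ^^^ stdF t (co r))) := by
  obtain ⟨hyQ, hyc⟩ := h'.comm_mem hr
  obtain ⟨hxQ, -⟩ := h'.comm_mem hq
  have hqy : q * (r * v * r⁻¹ * v) * q⁻¹ =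
      r * v * r⁻¹ * v * pw z (bn (co q) (co r ^^^ stdF t (co r))) := by
    rw [h'.frame.comm_Q hq hyQ, hyc]
  calc (q * r) * v * (q * r)⁻¹ * v = q * (r * v * r⁻¹ * (v * v)) * q⁻¹ * v := by rw [h'.uu]; group
    _ = q * (r * v * r⁻¹ * v) * q⁻¹ * (q * v * q⁻¹ * v) := by group
    _ = r * v * r⁻¹ * v * (pw z (bn (co q) (co r ^^^ stdF t (co r))) * (q * v * q⁻¹ * v)) := by
      rw [hqy, mul_assoc]
    _ = _ := by
      rw [← (h'.commute_pw (h'.frame.commute_of_mem hxQ) _).eq]
      simp only [mul_assoc]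

/-- Second or third kind on both sides. -/
theorem not_mid_mid (hs : s = 2 ∨ s = 3) (ht : t = 2 ∨ t = 3) : False := by
  have ht' : t ∈ [2, 3] := by rcases ht with rfl | rfl <;> decide
  have hs' : s ∈ [2, 3] := by rcases hs with rfl | rfl <;> decide
  set l := kkTab.getD (t - 2) [] with hl
  have hllt : ∀ i, l.getD i 0 < 256 := fun i => by
    rw [List.getD_eq_getElem?_getD]
    rcases hi : l[i]? with _ | x
    · exact Nat.zero_lt_succ _
    · have hxl : x ∈ l := List.mem_of_getElem? hi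
      have hmem : l ∈ kkTab := by
        rw [hl]; rcases ht with rfl | rfl <;> decide
      exact of_decide_eq_true (List.all_eq_true.1 (List.all_eq_true.1 kk_lt_check l hmem) x hxl)
  choose q hq hqc using fun i : ℕ => h.frame.co_surj (l.getD i 0) (hllt i)
  let X : G → G := fun p => p * v * p⁻¹ * v
  let f : G → G := fun p => g * X p * g⁻¹
  have hpow : ∀ i < 4, comb l (2 ^ i) = l.getD i 0 := by
    rw [hl]; rcases ht with rfl | rfl <;> decide +kernel
  have good' : ∀ p ∈ Q, ∀ i < 16, i ≠ 0 → co p = comb l i →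
      InP Q g (f p) ∧ Commute (f p) z ∧ fixN (ac (f p)) = 16 := by
    intro p hp i hi hne hpc
    have hm : comb l i ^^^ stdF t (comb l i) ≠ 0 := fun e => by
      have := List.all_eq_true.1 (List.all_eq_true.1 kk_indep_check t ht') i (List.mem_range.2 hi)
      rw [← hl, e, Bool.or_eq_true] at this
      rcases this with e' | e'
      · exact hne (Nat.eq_of_beq_eq_true e')
      · exact absurd e' (by decide)
    have hlt : comb l i < 256 := hpc ▸ h.frame.co_lt p hp
    have hqn : qn (comb l i ^^^ stdF t (comb l i)) = false := by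
      have := List.all_eq_true.1 (List.all_eq_true.1 qn_moved t ht') _ (mem_all8.2 hlt)
      simpa using this
    have := h.good_comm h' hp hpc hm hqn (e := false) (fun e => absurd e (by decide))
    simpa only [f, X, show pw z false = 1 from rfl, mul_one] using this
  have hbn : ∀ i < 4, ∀ j < 4, i ≠ j →
      bn (l.getD i 0) (l.getD j 0 ^^^ stdF t (l.getD j 0)) = decide (i / 2 = j / 2) := by
    intro i hi j hj hne
    have := List.all_eq_true.1 (List.all_eq_true.1 (List.all_eq_true.1 kk_check t ht') i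
      (by interval_cases i <;> decide)) j (by interval_cases j <;> decide)
    rw [← hl, Bool.or_eq_true] at this
    rcases this with e | e
    · exact absurd (Nat.eq_of_beq_eq_true e) hne
    · exact beq_iff_eq.1 e
  have c0 : co (q 0) = comb l 1 := (hqc 0).trans (hpow 0 (by norm_num)).symm
  have c1 : co (q 1) = comb l 2 := (hqc 1).trans (hpow 1 (by norm_num)).symm
  have c2 : co (q 2) = comb l 4 := (hqc 2).trans (hpow 2 (by norm_num)).symm
  have c3 : co (q 3) = comb l 8 := (hqc 3).trans (hpow 3 (by norm_num)).symm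
  have hcm : ∀ p ∈ Q, ∀ r ∈ Q, ∀ i j, co p = comb l i → co r = comb l j → co (p * r) = comb l (i ^^^ j) :=
    fun p hp r hr i j e e' => by rw [h.frame.co_mul p hp r hr, e, e', comb_xor]
  obtain ⟨P0, z0, g0⟩ := good' _ (hq 0) 1 (by norm_num) (by norm_num) c0
  obtain ⟨P1, z1, g1⟩ := good' _ (hq 1) 2 (by norm_num) (by norm_num) c1
  obtain ⟨P2, z2, g2⟩ := good' _ (hq 2) 4 (by norm_num) (by norm_num) c2
  obtain ⟨P3, z3, g3⟩ := good' _ (hq 3) 8 (by norm_num) (by norm_num) c3
  obtain ⟨i0, l0, e0⟩ := h.idx_exists h' hs P0 z0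
  obtain ⟨i1, l1, e1⟩ := h.idx_exists h' hs P1 z1
  obtain ⟨i2, l2, e2⟩ := h.idx_exists h' hs P2 z2
  obtain ⟨i3, l3, e3⟩ := h.idx_exists h' hs P3 z3
  have xlt : ∀ {i j}, i < 64 → j < 64 → i ^^^ j < 64 := fun hi hj => Nat.xor_lt_two_pow (n := 6) hi hj
  have hU : uIdx < 64 := by decide
  have eU : ∀ k < 256, ac u k = act2 s uIdx k := fun k hk =>
    (h.act k hk).trans ((group_spec hs).2.1 k hk).symm
  -- products of commutators
  have fprod : ∀ p ∈ Q, ∀ r ∈ Q, ∀ i j, i < 64 → j < 64 → Commute (f p) z → Commute (f r) z →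
      (∀ k < 256, ac (f p) k = act2 s i k) → (∀ k < 256, ac (f r) k = act2 s j k) →
      ∀ k < 256, ac (f (p * r)) k =
        act2 s (bif bn (co p) (co r ^^^ stdF t (co r)) then i ^^^ j ^^^ uIdx else i ^^^ j) k := by
    intro p hp r hr i j hi hj hpz hrz ei ej k hk
    have he : f (p * r) = f r * f p * pw u (bn (co p) (co r ^^^ stdF t (co r))) := by
      simp only [f, X]
      rw [Cfg.comm_prod h' hp hr]
      cases bn (co p) (co r ^^^ stdF t (co r))
      · rw [show pw z false = 1 from rfl, show pw u false = 1 from rfl]; group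
      · rw [show pw z true = z from rfl, show pw u true = u from rfl, h.hu]; group
    rw [he]
    cases bn (co p) (co r ^^^ stdF t (co r))
    · rw [show pw u false = 1 from rfl, mul_one, cond_false, Nat.xor_comm i j]
      exact h.idx_mul h' hs hrz hpz hj hi ej ei k hk
    · rw [show pw u true = u from rfl, cond_true, Nat.xor_comm i j]
      exact h.idx_mul h' hs (hrz.mul_left hpz) h.hc (xlt hj hi) hU (h.idx_mul h' hs hrz hpz hj hi ej ei) eU k hk
  have e01 := fprod _ (hq 0) _ (hq 1) _ _ l0 l1 z0 z1 e0 e1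
  rw [hqc, hqc, hbn 0 (by norm_num) 1 (by norm_num) (by norm_num), decide_eq_true (by norm_num), cond_true] at e01
  have e23 := fprod _ (hq 2) _ (hq 3) _ _ l2 l3 z2 z3 e2 e3
  rw [hqc, hqc, hbn 2 (by norm_num) 3 (by norm_num) (by norm_num), decide_eq_true (by norm_num), cond_true] at e23
  obtain ⟨-, z01, g01⟩ := good' _ (mul_mem (hq 0) (hq 1)) _ (by decide) (by decide)
    (hcm _ (hq 0) _ (hq 1) _ _ c0 c1)
  obtain ⟨-, z23, g23⟩ := good' _ (mul_mem (hq 2) (hq 3)) _ (by decide) (by decide)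
    (hcm _ (hq 2) _ (hq 3) _ _ c2 c3)
  have k01 : co (q 0 * q 1) = l.getD 0 0 ^^^ l.getD 1 0 := by rw [h.frame.co_mul _ (hq 0) _ (hq 1), hqc, hqc]
  have k23 : co (q 2 * q 3) ^^^ stdF t (co (q 2 * q 3)) =
      (l.getD 2 0 ^^^ stdF t (l.getD 2 0)) ^^^ (l.getD 3 0 ^^^ stdF t (l.getD 3 0)) := by
    rw [h.frame.co_mul _ (hq 2) _ (hq 3), hqc, hqc, (stdF_lin h'.hs).add _ (hllt 2) _ (hllt 3)]
    ac_rfl
  have mlt : ∀ i, l.getD i 0 ^^^ stdF t (l.getD i 0) < 256 := fun i =>
    xor_lt (hllt i) ((stdF_lin h'.hs).lt _ (hllt i))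
  have zero2 : ∀ i < 2, ∀ j ∈ [2, 3], bn (l.getD i 0) (l.getD j 0 ^^^ stdF t (l.getD j 0)) = false := by
    intro i hi j hj
    have hj' : j = 2 ∨ j = 3 := by simpa using hj
    rw [hbn i (by omega) j (by omega) (by omega)]
    exact decide_eq_false (by omega)
  -- a commutator from the first pair times one from the second
  have nine : ∀ p ∈ Q, ∀ r ∈ Q, ∀ i j, ∀ m < 4, ∀ n < 16, m ≠ 0 → n ≠ 0 → n % 4 = 0 → co p = comb l m →
      co r = comb l n → i < 64 → j < 64 → Commute (f p) z → Commute (f r) z →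
      (∀ k < 256, ac (f p) k = act2 s i k) → (∀ k < 256, ac (f r) k = act2 s j k) →
      bn (co p) (co r ^^^ stdF t (co r)) = false → good s (j ^^^ i) = true := by
    intro p hp r hr i j m hm n hn hm0 hn0 hn4 hpc hrc hi hj hpz hrz ei ej hz0
    have e := fprod p hp r hr i j hi hj hpz hrz ei ej
    rw [hz0, cond_false] at e
    have hne : m ^^^ n ≠ 0 := fun e' => by
      have := Nat.eq_of_xor_eq_zero e'
      omega
    obtain ⟨-, -, hg⟩ := good' _ (mul_mem hp hr) _ (Nat.xor_lt_two_pow (n := 4) (by omega) hn) hne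
      (hcm p hp r hr _ _ hpc hrc)
    rw [Nat.xor_comm]
    exact h.good_idx h' hs hg (xlt hi hj) e
  have h34 : (2 : ℕ) ∈ [2, 3] ∧ (3 : ℕ) ∈ [2, 3] := ⟨by decide, by decide⟩
  have b02 : bn (co (q 0)) (co (q 2) ^^^ stdF t (co (q 2))) = false := by rw [hqc, hqc]; exact zero2 0 (by norm_num) _ h34.1
  have b03 : bn (co (q 0)) (co (q 3) ^^^ stdF t (co (q 3))) = false := by rw [hqc, hqc]; exact zero2 0 (by norm_num) _ h34.2
  have b12 : bn (co (q 1)) (co (q 2) ^^^ stdF t (co (q 2))) = false := by rw [hqc, hqc]; exact zero2 1 (by norm_num) _ h34.1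
  have b13 : bn (co (q 1)) (co (q 3) ^^^ stdF t (co (q 3))) = false := by rw [hqc, hqc]; exact zero2 1 (by norm_num) _ h34.2
  have b0P : bn (co (q 0)) (co (q 2 * q 3) ^^^ stdF t (co (q 2 * q 3))) = false := by
    rw [k23, hqc, bn_add (hllt 0) (mlt 2) (mlt 3), zero2 0 (by norm_num) _ h34.1, zero2 0 (by norm_num) _ h34.2]; rfl
  have b1P : bn (co (q 1)) (co (q 2 * q 3) ^^^ stdF t (co (q 2 * q 3))) = false := by
    rw [k23, hqc, bn_add (hllt 1) (mlt 2) (mlt 3), zero2 1 (by norm_num) _ h34.1, zero2 1 (by norm_num) _ h34.2]; rfl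
  have bP2 : bn (co (q 0 * q 1)) (co (q 2) ^^^ stdF t (co (q 2))) = false := by
    rw [k01, hqc, bn_add' (mlt 2) (hllt 0) (hllt 1), zero2 0 (by norm_num) _ h34.1, zero2 1 (by norm_num) _ h34.1]; rfl
  have bP3 : bn (co (q 0 * q 1)) (co (q 3) ^^^ stdF t (co (q 3))) = false := by
    rw [k01, hqc, bn_add' (mlt 3) (hllt 0) (hllt 1), zero2 0 (by norm_num) _ h34.2, zero2 1 (by norm_num) _ h34.2]; rfl
  have bPP : bn (co (q 0 * q 1)) (co (q 2 * q 3) ^^^ stdF t (co (q 2 * q 3))) = false := by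
    rw [k23, k01, bn_add (xor_lt (hllt 0) (hllt 1)) (mlt 2) (mlt 3), bn_add' (mlt 2) (hllt 0) (hllt 1),
      bn_add' (mlt 3) (hllt 0) (hllt 1), zero2 0 (by norm_num) _ h34.1, zero2 1 (by norm_num) _ h34.1,
      zero2 0 (by norm_num) _ h34.2, zero2 1 (by norm_num) _ h34.2]
    rfl
  have c01 := hcm _ (hq 0) _ (hq 1) _ _ c0 c1
  have c23 := hcm _ (hq 2) _ (hq 3) _ _ c2 c3
  have m01 := mul_mem (hq 0) (hq 1)
  have m23 := mul_mem (hq 2) (hq 3)
  have lab := xlt (xlt l0 l1) hU
  have lcd := xlt (xlt l2 l3) hU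
  have n02 := nine _ (hq 0) _ (hq 2) _ _ 1 (by decide) 4 (by decide) (by decide) (by decide) rfl c0 c2 l0 l2 z0 z2 e0 e2 b02
  have n03 := nine _ (hq 0) _ (hq 3) _ _ 1 (by decide) 8 (by decide) (by decide) (by decide) rfl c0 c3 l0 l3 z0 z3 e0 e3 b03
  have n0P := nine _ (hq 0) _ m23 _ _ 1 (by decide) 12 (by decide) (by decide) (by decide) rfl c0 c23 l0 lcd z0 z23 e0 e23 b0P
  have n12 := nine _ (hq 1) _ (hq 2) _ _ 2 (by decide) 4 (by decide) (by decide) (by decide) rfl c1 c2 l1 l2 z1 z2 e1 e2 b12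
  have n13 := nine _ (hq 1) _ (hq 3) _ _ 2 (by decide) 8 (by decide) (by decide) (by decide) rfl c1 c3 l1 l3 z1 z3 e1 e3 b13
  have n1P := nine _ (hq 1) _ m23 _ _ 2 (by decide) 12 (by decide) (by decide) (by decide) rfl c1 c23 l1 lcd z1 z23 e1 e23 b1P
  have nP2 := nine _ m01 _ (hq 2) _ _ 3 (by decide) 4 (by decide) (by decide) (by decide) rfl c01 c2 lab l2 z01 z2 e01 e2 bP2
  have nP3 := nine _ m01 _ (hq 3) _ _ 3 (by decide) 8 (by decide) (by decide) (by decide) rfl c01 c3 lab l3 z01 z3 e01 e3 bP3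
  have nPP := nine _ m01 _ m23 _ _ 3 (by decide) 12 (by decide) (by decide) (by decide) rfl c01 c23 lab lcd z01 z23 e01 e23 bPP
  have G0 := h.good_idx h' hs g0 l0 e0
  have G1 := h.good_idx h' hs g1 l1 e1
  have G2 := h.good_idx h' hs g2 l2 e2
  have G3 := h.good_idx h' hs g3 l3 e3
  have G01 := h.good_idx h' hs g01 lab e01
  have G23 := h.good_idx h' hs g23 lcd e23
  have mg : ∀ {i}, i < 64 → good s i = true → i ∈ goods s := fun hi hg =>
    List.mem_filter.2 ⟨List.mem_range.2 hi, hg⟩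
  have ok2 : okPair s i0 i1 i2 = true := by simp only [okPair, n02, n12, nP2, Bool.and_self]
  have ok3 : okPair s i0 i1 i3 = true := by simp only [okPair, n03, n13, nP3, Bool.and_self]
  have okP : okPair s i0 i1 (i2 ^^^ i3 ^^^ uIdx) = true := by simp only [okPair, n0P, n1P, nPP, Bool.and_self]
  have hchk := List.all_eq_true.1 (List.all_eq_true.1 (List.all_eq_true.1 nine_check s hs') _ (mg l0 G0)) _ (mg l1 G1)
  rw [G01, Bool.not_true, Bool.false_or] at hchk
  have := List.all_eq_true.1 (List.all_eq_true.1 hchk _ (List.mem_filter.2 ⟨mg l2 G2, ok2⟩)) _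
    (List.mem_filter.2 ⟨mg l3 G3, ok3⟩)
  rw [G23, okP] at this
  exact absurd this (by decide)

/-- The last kind on both sides. -/
theorem not_four_four (hs : s = 4) (ht : t = 4) : False := by
  subst hs
  have ha : a = 8 := by
    have := h.ha
    rwa [as_four, List.mem_singleton] at this
  subst ha
  have lt4 : ∀ i, comb (cbs 4) i < 256 := fun i => (comb_fixed (by norm_num) i).1
  have key : ∀ r ∈ Q, ∀ i, co r = comb (cbs 4) i → i < 8 → i ≠ 0 →
      Commute (g * r * g⁻¹) z ∧ ∃ d < c44.length, ∀ k < 256, ac (g * r * g⁻¹) k = comb (c44.getD d []) k := by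
    intro r hr i hrc hi hne
    obtain ⟨hP, hz, h1, h2⟩ := h.good_four h' ht hr hi hne hrc
    refine ⟨hz, ?_⟩
    obtain ⟨L, hL, hLk⟩ := h.F_surv h' hP hz
    have hchk := List.all_eq_true.1 c44_check L hL
    have f1 : fixN (comb L) = 16 := by rw [← fixN_congr hLk]; exact h1
    have f2 : (fixN fun k => comb L (stdF 4 k)) = 16 := by
      rw [← h2]
      exact fixN_congr fun k hk => by
        rw [h.frame.ac_mul hz h.hc hk, h.act k hk, hLk _ ((stdF_lin (by norm_num)).lt k hk)]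
    rw [f1, f2, Nat.beq_refl] at hchk
    obtain ⟨d, hd, rfl⟩ := List.getElem_of_mem (List.contains_iff_mem.1 (by simpa using hchk : c44.contains L = true))
    exact ⟨d, hd, fun k hk => by rw [hLk k hk, List.getD_eq_getElem _ _ hd]⟩
  obtain ⟨x, hx, hxc⟩ := h.frame.co_surj _ (lt4 1)
  obtain ⟨y, hy, hyc⟩ := h.frame.co_surj _ (lt4 2)
  obtain ⟨w, hw, hwc⟩ := h.frame.co_surj _ (lt4 4)
  have hco : ∀ p ∈ Q, ∀ q ∈ Q, ∀ i j, co p = comb (cbs 4) i → co q = comb (cbs 4) j →
      co (p * q) = comb (cbs 4) (i ^^^ j) := fun p hp q hq i j e e' => by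
    rw [h.frame.co_mul p hp q hq, e, e', comb_xor]
  have hclt : ∀ d < c44.length, Lin8 (comb (c44.getD d [])) := by
    have hall : ∀ L ∈ c44, ∀ x ∈ L, x < 256 := by decide +kernel
    intro d hd
    rw [List.getD_eq_getElem _ _ hd]
    exact comb_lin (hall _ (List.getElem_mem hd))
  have link : ∀ p ∈ Q, ∀ q ∈ Q, ∀ i j a' b' d', co p = comb (cbs 4) i → co q = comb (cbs 4) j →
      a' < c44.length → b' < c44.length → d' < c44.length →
      Commute (g * p * g⁻¹) z → Commute (g * q * g⁻¹) z →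
      (∀ k < 256, ac (g * p * g⁻¹) k = comb (c44.getD a' []) k) →
      (∀ k < 256, ac (g * q * g⁻¹) k = comb (c44.getD b' []) k) →
      (∀ k < 256, ac (g * (p * q) * g⁻¹) k = comb (c44.getD d' []) k) →
      (adj44.getD a' 0).testBit b' = true ∧
        (adj44.getD a' 0) &&& (adj44.getD b' 0) &&& (adj44.getD d' 0) = 0 := by
    intro p _ q _ i j a' b' d' _ _ la lb ld pz qz ea eb ed
    have hchk := List.all_eq_true.1 (List.all_eq_true.1 (List.all_eq_true.1 pair44_check a'
      (List.mem_range.2 la)) b' (List.mem_range.2 lb)) d' (List.mem_range.2 ld)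
    have hag : agree (fun k => comb (c44.getD a' []) (comb (c44.getD b' []) k)) (comb (c44.getD d' [])) = true := by
      refine List.all_eq_true.2 fun k hk => ?_
      have hk' := bits8_lt k hk
      have e : ac (g * (p * q) * g⁻¹) k = ac (g * p * g⁻¹) (ac (g * q * g⁻¹) k) := by
        rw [show g * (p * q) * g⁻¹ = g * p * g⁻¹ * (g * q * g⁻¹) by group, h.frame.ac_mul pz qz hk']
      rw [ed k hk', eb k hk', ea _ ((hclt b' lb).lt k hk')] at e
      rw [show (fun k => comb (c44.getD a' []) (comb (c44.getD b' []) k)) k =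
        comb (c44.getD a' []) (comb (c44.getD b' []) k) from rfl, ← e]
      exact Nat.beq_refl _
    rw [hag, Bool.not_true, Bool.false_or, Bool.and_eq_true] at hchk
    exact ⟨hchk.1, Nat.eq_of_beq_eq_true hchk.2⟩
  have h3 := hco x hx y hy _ _ hxc hyc
  have h5 := hco x hx w hw _ _ hxc hwc
  have h6 := hco y hy w hw _ _ hyc hwc
  have h7 := hco _ (mul_mem hx hy) w hw _ _ h3 hwc
  obtain ⟨xz, da, la, ea⟩ := key x hx 1 hxc (by norm_num) (by norm_num)
  obtain ⟨yz, db, lb, eb⟩ := key y hy 2 hyc (by norm_num) (by norm_num)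
  obtain ⟨wz, dc, lc, ec⟩ := key w hw 4 hwc (by norm_num) (by norm_num)
  obtain ⟨xyz, dab, lab, eab⟩ := key _ (mul_mem hx hy) _ h3 (by decide) (by decide)
  obtain ⟨-, dac, lac, eac⟩ := key _ (mul_mem hx hw) _ h5 (by decide) (by decide)
  obtain ⟨-, dbc, lbc, ebc⟩ := key _ (mul_mem hy hw) _ h6 (by decide) (by decide)
  obtain ⟨-, dabc, labc, eabc⟩ := key _ (mul_mem (mul_mem hx hy) hw) _ h7 (by decide) (by decide)
  have t1 := (link x hx y hy _ _ da db dab hxc hyc la lb lab xz yz ea eb eab).2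
  have t2 := (link x hx w hw _ _ da dc dac hxc hwc la lc lac xz wz ea ec eac).1
  have t3 := (link y hy w hw _ _ db dc dbc hyc hwc lb lc lbc yz wz eb ec ebc).1
  have t4 := (link _ (mul_mem hx hy) w hw _ _ dab dc dabc h3 hwc lab lc labc xyz wz eab ec eabc).1
  have := congrArg (fun n => n.testBit dc) t1
  simp only [Nat.testBit_and, t2, t3, t4, Nat.zero_testBit, Bool.and_self] at this
  exact absurd this (by decide)

end Cfg

/-- Some conjugate of `z` other than `z` lies in `Q`, as soon as some other one commutes with `z`. -/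
theorem exists_conj_mem (F : Frame z Q co ac) (g : G) (hc : Commute (g * z * g⁻¹) z) (ne : g * z * g⁻¹ ≠ z) :
    ∃ x : G, x * z * x⁻¹ ∈ Q ∧ x * z * x⁻¹ ≠ z := by
  by_contra hno
  have wc : ∀ x : G, x * z * x⁻¹ ∈ Q → x * z * x⁻¹ = z := fun x hx => by
    by_contra hne
    exact hno ⟨x, hx, hne⟩
  obtain ⟨-, g', u, v, s, a, t, b, -, -, h, h'⟩ := exists_cfg2 F wc g hc ne
  have h'' : Cfg z Q co ac g'⁻¹⁻¹ u s a := by rw [inv_inv]; exact h
  have hs2 := h.two_le_s h'
  have ht2 := h'.two_le_s h''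
  have hs5 := h.hs
  have ht5 := h'.hs
  rcases (by omega : (s = 2 ∨ s = 3) ∨ s = 4) with hs | hs <;>
    rcases (by omega : (t = 2 ∨ t = 3) ∨ t = 4) with ht | ht
  · exact h.not_mid_mid h' hs ht
  · exact h.not_mid_four h' hs ht
  · exact h'.not_mid_four h'' ht hs
  · exact h.not_four_four h' hs ht

end Cfsg.Agent.Lib.Co1Weak71
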