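import Cfsg.Agent.Lib.Co1Weak71.Final
import Cfsg.Agent.Lib.Co1Type31.Setup
import Cfsg.Agent.Lib.ZStar.Consequences
import Cfsg.Agent.Lib.ZStar.StronglyClosed
import Cfsg.Agent.Lib.Balance.Locals
import Cfsg.Agent.Lib.OrthOmega.Simple
import Cfsg.Agent.Lib.PSolvable.HallHigman

/-!
# From the centraliser of the first Conway group to the large extraspecial hypothesis

Owner: helper71.
-/

set_option autoImplicit false

namespace Cfsg.Agent.Lib.Co1Weak71

open Cfsg.Agent.Lib.Co1Type31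
open Cfsg.Agent.Lib.Extraspecial Cfsg.Agent.Lib.Extraspecial.OutModel

/-- The orthogonal group of plus type in dimension eight over two elements is simple. -/
theorem isSimple_omega8 : IsSimpleGroup (Cfsg.Omega (ZMod 2) (Cfsg.quadFormPlus 4 (ZMod 2))) := by
  have hc : Nat.card (Cfsg.Omega (ZMod 2) (Cfsg.quadFormPlus 4 (ZMod 2))) = 174182400 := by
    rw [← qf_plus]; exact card_omega8
  have : Finite (Cfsg.Omega (ZMod 2) (Cfsg.quadFormPlus 4 (ZMod 2))) :=
    Nat.finite_of_card_ne_zero (by rw [hc]; norm_num)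
  have h := OrthOmega.card_pOmega_plus (F := ZMod 2) (q := 2) (ZMod.card 2) 4 (by norm_num)
  have hp : Nat.card (Cfsg.POmega (ZMod 2) (Cfsg.quadFormPlus 4 (ZMod 2))) = 174182400 := by
    norm_num [Finset.prod_range_succ] at h
    exact h
  have hb : Function.Bijective
      (QuotientGroup.mk' (Subgroup.center (Cfsg.Omega (ZMod 2) (Cfsg.quadFormPlus 4 (ZMod 2))))) :=
    (Nat.bijective_iff_surjective_and_card _).2
      ⟨QuotientGroup.mk'_surjective _, by rw [hc]; exact hp.symm⟩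
  have := OrthOmega.isSimpleGroup_pOmega_plus (F := ZMod 2) 4 (by norm_num)
  exact (MulEquiv.ofBijective _ hb).isSimpleGroup

/-- A group with simple quotient of even order by its two-core has no normal subgroup of odd order. -/
theorem pPrimeCore_eq_bot {C : Type*} [Group C] [Finite C] [IsSimpleGroup (C ⧸ Cfsg.pCore 2 C)]
    (heven : Even (Nat.card (C ⧸ Cfsg.pCore 2 C))) : Cfsg.pPrimeCore 2 C = ⊥ := by
  have : Fact (Nat.Prime 2) := ⟨Nat.prime_two⟩
  set O := Cfsg.pPrimeCore 2 C with hO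
  have hodd : Odd (Nat.card O) := Nat.coprime_two_right.1 (Cores.pPrimeCore_coprime 2)
  have hmap : (O.map (QuotientGroup.mk' (Cfsg.pCore 2 C))).Normal :=
    Subgroup.Normal.map inferInstance _ (QuotientGroup.mk'_surjective _)
  rcases IsSimpleGroup.eq_bot_or_eq_top_of_normal _ hmap with e | e
  · rw [Subgroup.map_eq_bot_iff, QuotientGroup.ker_mk'] at e
    exact le_bot_iff.1 (le_trans (le_inf e le_rfl) (Cores.pCore_inf_pPrimeCore 2).le)
  · have hd := Subgroup.card_map_dvd O (QuotientGroup.mk' (Cfsg.pCore 2 C))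
    rw [e, Subgroup.card_top] at hd
    exact absurd ((even_iff_two_dvd.2 ((even_iff_two_dvd.1 heven).trans hd))) (Nat.not_even_iff_odd.2 hodd)

variable {G : Type*} [Group G] [Finite G] {t : G}

/-- The two-core of the centraliser is its generalised Fitting subgroup. -/
theorem genFitting_eq (hcon : Cfsg.IsPConstrained 2 (Subgroup.centralizer ({t} : Set G)))
    (e : (Subgroup.centralizer ({t} : Set G)) ⧸ Cfsg.pCore 2 (Subgroup.centralizer ({t} : Set G)) ≃*
      Cfsg.Omega (ZMod 2) (Cfsg.quadFormPlus 4 (ZMod 2))) :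
    Cfsg.generalizedFittingSubgroup (Subgroup.centralizer ({t} : Set G)) =
      Cfsg.pCore 2 (Subgroup.centralizer ({t} : Set G)) := by
  have : Fact (Nat.Prime 2) := ⟨Nat.prime_two⟩
  set C := Subgroup.centralizer ({t} : Set G)
  have := isSimple_omega8
  have hs : IsSimpleGroup (C ⧸ Cfsg.pCore 2 C) := e.isSimpleGroup
  have hO : Cfsg.pPrimeCore 2 C = ⊥ := pPrimeCore_eq_bot (by
    rw [Nat.card_congr e.toEquiv, ← qf_plus, card_omega8]
    decide)
  have hP : Cfsg.pPrimePCore 2 C = Cfsg.pCore 2 C := by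
    refine le_antisymm ?_ PSolvable.pCore_le_pPrimePCore
    refine Cores.le_pCore ?_
    refine IsPGroup.comap_of_ker_isPGroup (Cores.pCore_isPGroup 2) _ ?_
    rw [QuotientGroup.ker_mk', hO]
    exact IsPGroup.of_bot
  refine (Balance.centralizer_pCore_le_iff).1 ?_
  obtain ⟨P⟩ : Nonempty (Sylow 2 ↥(Cfsg.pPrimePCore 2 C)) := inferInstance
  have hp : IsPGroup 2 ↥(Cfsg.pPrimePCore 2 C) := by rw [hP]; exact Cores.pCore_isPGroup 2
  have htop : (P : Subgroup ↥(Cfsg.pPrimePCore 2 C)) = ⊤ :=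
    P.3 (hp.to_subgroup ⊤) le_top |>.symm
  have := hcon P
  rw [htop, ← MonoidHom.range_eq_map, Subgroup.range_subtype, hP] at this
  exact this

/-- Some conjugate of `t` other than `t` lies in the two-core of its centraliser. -/
theorem exists_conj_mem_core (hO : Cfsg.oddCore G = ⊥) (hZ : Subgroup.center G = ⊥) (ht : orderOf t = 2)
    (hcon : Cfsg.IsPConstrained 2 (Subgroup.centralizer ({t} : Set G)))
    (hQ : Cfsg.IsExtraspecial 2 (Cfsg.pCore 2 (Subgroup.centralizer ({t} : Set G))))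
    (hcard : Nat.card (Cfsg.pCore 2 (Subgroup.centralizer ({t} : Set G))) = 2 ^ 9)
    (e : (Subgroup.centralizer ({t} : Set G)) ⧸ Cfsg.pCore 2 (Subgroup.centralizer ({t} : Set G)) ≃*
      Cfsg.Omega (ZMod 2) (Cfsg.quadFormPlus 4 (ZMod 2))) :
    ∃ g : G, (∃ hq : g * t * g⁻¹ ∈ Subgroup.centralizer ({t} : Set G),
      (⟨g * t * g⁻¹, hq⟩ : Subgroup.centralizer ({t} : Set G)) ∈
        Cfsg.pCore 2 (Subgroup.centralizer ({t} : Set G))) ∧ g * t * g⁻¹ ≠ t := by
  obtain ⟨co, ac, F⟩ := exists_frame t ht (Subgroup.centralizer ({t} : Set G)) rfl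
    (Cfsg.pCore 2 (Subgroup.centralizer ({t} : Set G))) (genFitting_eq hcon e) hQ hcard e
  obtain ⟨g, hc, hne⟩ : ∃ g : G, Commute (g * t * g⁻¹) t ∧ g * t * g⁻¹ ≠ t := by
    by_contra hno
    have hiso : Cfsg.IsIsolatedInvolution t :=
      ⟨ht, fun g hg => not_not.1 fun hne => hno ⟨g, hg.symm, hne⟩⟩
    have hc : t ∈ Subgroup.center G := Subgroup.mem_center_iff.2 fun g => by
      have h := ZStar.Consequences.isolated_commutator_mem ZStar.StronglyClosed.involutionThm hiso g
      rw [hO, Subgroup.mem_bot, mul_inv_eq_one, mul_inv_eq_iff_eq_mul] at h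
      exact h.symm
    rw [hZ, Subgroup.mem_bot] at hc
    rw [hc, orderOf_one] at ht
    exact absurd ht (by decide)
  obtain ⟨x, ⟨y, hy, hye⟩, hxne⟩ := exists_conj_mem F g hc hne
  change (y : G) = x * t * x⁻¹ at hye
  exact ⟨x, ⟨hye ▸ y.2, (Subtype.ext hye : y = ⟨x * t * x⁻¹, hye ▸ y.2⟩) ▸ hy⟩, hxne⟩

end Cfsg.Agent.Lib.Co1Weak71
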