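import Cfsg.Agent.Lib.Co1Weak71.Checks

/-!
# The weakly closed case of the Conway centraliser: a pair of centralisers

`u = g z g⁻¹` is a conjugate of `z` in `C(z)` acting as a standard map, `P = g Q g⁻¹`; the only conjugate of
`z` in `Q` is `z`.

Owner: helper71.
-/

set_option autoImplicit false

namespace Cfsg.Agent.Lib.Co1Weak71

open Cfsg.Agent.Lib.Co1Type31
open Cfsg.Agent.Lib.LargeExtraspecial.Basic

variable {G : Type*} [Group G]

/-- Membership in the conjugate of `Q`. -/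
def InP (Q : Subgroup G) (g x : G) : Prop := g⁻¹ * x * g ∈ Q

/-- The functional is preserved by a map. -/
def ChiPres (s a : ℕ) (f : ℕ → ℕ) : Prop :=
  ∀ i < 2 ^ dimC s, ∃ i' < 2 ^ dimC s, comb (cbs s) i' = f (comb (cbs s) i) ∧ par (i' &&& a) = par (i &&& a)

/-- A conjugate of `z` in `C(z)` in standard position. -/
structure Cfg (z : G) (Q : Subgroup G) (co : G → ℕ) (ac : G → ℕ → ℕ) (g u : G) (s a : ℕ) : Prop where
  frame : Frame z Q co ac
  wc : ∀ x : G, x * z * x⁻¹ ∈ Q → x * z * x⁻¹ = z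
  hu : u = g * z * g⁻¹
  hc : Commute u z
  ne : u ≠ z
  hs : s < 5
  act : ∀ k < 256, ac u k = stdF s k
  ha : a ∈ As s
  chi : ∀ q ∈ Q, ∀ i < 2 ^ dimC s, co q = comb (cbs s) i → u * q * u = q * pw z (par (i &&& a))

theorem cbs_spec {s : ℕ} (hs : s < 5) : dimM s ≤ dimC s ∧ dimC s ≤ 6 ∧
    (∀ c ∈ cbs s, c < 256 ∧ stdF s c = c) ∧
    (∀ j < dimC s, comb (cbs s) (2 ^ j) = (cbs s).getD j 0) ∧
    (∀ i < 2 ^ dimC s, comb (cbs s) i = 0 → i = 0) := by
  have h := List.all_eq_true.1 basis_check s (List.mem_range.2 hs)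
  simp only [Bool.and_eq_true, decide_eq_true_eq] at h
  obtain ⟨⟨⟨⟨h1, h2⟩, h3⟩, h4⟩, h5⟩ := h
  refine ⟨h1, h2, fun c hc => ?_, fun j hj => Nat.eq_of_beq_eq_true
    (List.all_eq_true.1 h4 j (List.mem_range.2 hj)), fun i hi e => ?_⟩
  · have := List.all_eq_true.1 h3 c hc
    simp only [Bool.and_eq_true, decide_eq_true_eq] at this
    exact ⟨this.1, Nat.eq_of_beq_eq_true this.2⟩
  · have := List.all_eq_true.1 h5 i (List.mem_range.2 hi)
    rw [e, Bool.or_eq_true] at this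
    rcases this with this | this
    · exact Nat.eq_of_beq_eq_true this
    · exact absurd this (by decide)

theorem dimC_le {s : ℕ} (hs : s < 5) : dimC s ≤ 6 := (cbs_spec hs).2.1

theorem cbs_lt {s : ℕ} (hs : s < 5) : ∀ c ∈ cbs s, c < 256 := fun c hc => ((cbs_spec hs).2.2.1 c hc).1

theorem comb_fixed {s : ℕ} (hs : s < 5) (i : ℕ) :
    comb (cbs s) i < 256 ∧ stdF s (comb (cbs s) i) = comb (cbs s) i := by
  refine ⟨comb_lt (cbs_lt hs) i, ?_⟩
  rw [comb_map (stdF_lin hs) (cbs_lt hs)]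
  congr 1
  exact (List.map_congr_left fun c hc => ((cbs_spec hs).2.2.1 c hc).2).trans (List.map_id' _)

theorem exists_idx {s k : ℕ} (hs : s < 5) (hk : k < 256) (hf : stdF s k = k) :
    ∃ i < 2 ^ dimC s, comb (cbs s) i = k := by
  have h := List.all_eq_true.1 (List.all_eq_true.1 coverC_check s (List.mem_range.2 hs)) k (mem_all8.2 hk)
  rw [hf, Nat.beq_refl, Bool.not_true, Bool.false_or] at h
  obtain ⟨i, hi, he⟩ := List.any_eq_true.1 h
  exact ⟨i, List.mem_range.1 hi, Nat.eq_of_beq_eq_true he⟩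

theorem inM_iff {s k : ℕ} (hs : s < 5) (h : inM s k = true) : ∃ j < 256, k = j ^^^ stdF s j := by
  obtain ⟨i, hi, he⟩ := List.any_eq_true.1 h
  have := List.all_eq_true.1 (List.all_eq_true.1 imageM_check s (List.mem_range.2 hs)) i hi
  obtain ⟨j, hj, hje⟩ := List.any_eq_true.1 this
  exact ⟨j, mem_all8.1 hj, (Nat.eq_of_beq_eq_true he).symm.trans (Nat.eq_of_beq_eq_true hje)⟩

theorem as_lt {s a : ℕ} (hs : s < 5) (ha : a ∈ As s) : a < 64 ∧ 8 ≤ (idxs s a).length ∧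
    (a ≠ 0 → ∃ i < 2 ^ dimC s, par (i &&& a) = true) := by
  have h := List.all_eq_true.1 (List.all_eq_true.1 asRange_check s (List.mem_range.2 hs)) a ha
  simp only [Bool.and_eq_true, decide_eq_true_eq, Bool.or_eq_true] at h
  refine ⟨lt_of_lt_of_le h.1.1 (Nat.pow_le_pow_right two_pos (dimC_le hs)), h.1.2, fun hne => ?_⟩
  rcases h.2 with e | e
  · exact absurd (Nat.eq_of_beq_eq_true e) hne
  · obtain ⟨i, hi, hp⟩ := List.any_eq_true.1 e
    exact ⟨i, List.mem_range.1 hi, hp⟩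

theorem mem_idxs {s a i : ℕ} : i ∈ idxs s a ↔ i < 2 ^ dimC s ∧ par (i &&& a) = false := by
  simp [idxs]

theorem bit_step : ∀ n ≤ 6, ∀ i < 2 ^ n, i ≠ 0 → ∃ j < n, i ^^^ 2 ^ j < i := by decide +kernel

/-- Induction over the bits. -/
theorem ind_bits {n : ℕ} (hn : n ≤ 6) {P : ℕ → Prop} (h0 : P 0)
    (hs : ∀ j < n, ∀ i < 2 ^ n, P i → P (i ^^^ 2 ^ j)) : ∀ i < 2 ^ n, P i := by
  intro i
  induction i using Nat.strong_induction_on with
  | _ i ih =>
    intro hi
    rcases eq_or_ne i 0 with rfl | hne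
    · exact h0
    · obtain ⟨j, hj, hlt⟩ := bit_step n hn i hi hne
      have := hs j hj _ (hlt.trans hi) (ih _ hlt (hlt.trans hi))
      rwa [Nat.xor_assoc, Nat.xor_self, Nat.xor_zero] at this

theorem commF_spec {s : ℕ} {w : List (ℕ × ℕ)} (hs : s < 5) (hw : okWord w = true) (h : commF s w = true)
    {k : ℕ} (hk : k < 256) : prs w (stdF s k) = stdF s (prs w k) :=
  ((prs_lin hw).comp (stdF_lin hs)).ext ((stdF_lin hs).comp (prs_lin hw)) h k hk

theorem chiOK_spec {s a : ℕ} {w : List (ℕ × ℕ)} (hs : s < 5) (ha : a < 64) (hw : okWord w = true)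
    (h : chiOK s a w = true) : ChiPres s a (prs w) := by
  refine ind_bits (dimC_le hs) (P := fun i => ∃ i' < 2 ^ dimC s,
    comb (cbs s) i' = prs w (comb (cbs s) i) ∧ par (i' &&& a) = par (i &&& a))
    ⟨0, Nat.two_pow_pos _, by rw [comb_zero, (prs_lin hw).zero], rfl⟩ fun j hj i hi ⟨i', hi', he, hp⟩ => ?_
  obtain ⟨k, hk, hk'⟩ := List.any_eq_true.1 (List.all_eq_true.1 h j (List.mem_range.2 hj))
  rw [Bool.and_eq_true] at hk'
  refine ⟨i' ^^^ k, Nat.xor_lt_two_pow hi' (List.mem_range.1 hk), ?_, ?_⟩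
  · rw [comb_xor, comb_xor, (prs_lin hw).add _ (comb_fixed hs i).1 _ (comb_fixed hs _).1, he,
      Nat.eq_of_beq_eq_true hk'.1]
  · rw [par_and_xor ha, par_and_xor ha, hp, beq_iff_eq.1 hk'.2]

theorem pw_inj {z : G} (hz : z ≠ 1) : ∀ {b b' : Bool}, pw z b = pw z b' → b = b' := by
  intro b b' e
  cases b <;> cases b'
  exacts [rfl, absurd (e.symm : pw z true = pw z false) hz, absurd e hz, rfl]

namespace Cfg

variable {z : G} {Q : Subgroup G} {co : G → ℕ} {ac : G → ℕ → ℕ} {g u : G} {s a : ℕ}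
  (h : Cfg z Q co ac g u s a)
include h

theorem zz : z * z = 1 := h.frame.es.sq

theorem uu : u * u = 1 := by
  rw [h.hu, show g * z * g⁻¹ * (g * z * g⁻¹) = g * (z * z) * g⁻¹ by group, h.zz, mul_one, mul_inv_cancel]

theorem uinv : u⁻¹ = u := inv_eq_of_mul_eq_one_right h.uu

theorem commute_pw {q : G} (hq : Commute q z) (b : Bool) : Commute q (pw z b) := by
  cases b
  · exact Commute.one_right q
  · exact hq

theorem u_notQ : u ∉ Q := fun hm => h.ne (by rw [h.hu]; exact h.wc g (h.hu ▸ hm))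

theorem a_lt : a < 64 := (as_lt h.hs h.ha).1

theorem inP_mul {x y : G} (hx : InP Q g x) (hy : InP Q g y) : InP Q g (x * y) := by
  have := mul_mem hx hy
  simpa [InP, mul_assoc] using this

theorem inP_inv {x : G} (hx : InP Q g x) : InP Q g x⁻¹ := by
  have := inv_mem hx
  simpa [InP, mul_assoc] using this

theorem inP_one : InP Q g (1 : G) := by simp [InP]

theorem inP_u : InP Q g u := by
  have := h.frame.es.mem
  simpa [InP, h.hu, mul_assoc] using this

theorem comm_u {x : G} (hx : InP Q g x) : Commute x u := by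
  have := (h.frame.commute_of_mem hx).map (MulAut.conj g).toMonoidHom
  simpa [h.hu, mul_assoc] using this

theorem conj_eq {x : G} (hx : InP Q g (x * z * x⁻¹)) : x * z * x⁻¹ = u := by
  have e : g⁻¹ * (x * z * x⁻¹) * g = (g⁻¹ * x) * z * (g⁻¹ * x)⁻¹ := by group
  have := h.wc (g⁻¹ * x) (e ▸ hx)
  rw [← e] at this
  calc x * z * x⁻¹ = g * (g⁻¹ * (x * z * x⁻¹) * g) * g⁻¹ := by group
    _ = u := by rw [this, h.hu]

theorem z_notP : ¬ InP Q g z := fun hx => h.ne (by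
  have := h.conj_eq (x := 1) (by simpa using hx)
  simpa using this.symm)

theorem inP_norm {c x : G} (hc : Commute c u) (hx : InP Q g x) : InP Q g (c * x * c⁻¹) := by
  have h1 : Commute (g⁻¹ * c * g) z := by
    have := hc.map (MulAut.conj g⁻¹).toMonoidHom
    simpa [h.hu, mul_assoc] using this
  have := h.frame.norm _ h1 _ hx
  simpa [InP, mul_assoc] using this

/-- `ac u` is an involution. -/
theorem stdF_invol {k : ℕ} (hk : k < 256) : stdF s (stdF s k) = k := by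
  rw [← h.act k hk, ← h.act _ (h.frame.ac_lt h.hc hk), ← h.frame.ac_mul h.hc h.hc hk, h.uu,
    h.frame.ac_Q (one_mem Q) hk]

theorem ac_comm {c : G} (hcz : Commute c z) (hcu : Commute c u) {k : ℕ} (hk : k < 256) :
    ac c (stdF s k) = stdF s (ac c k) := by
  rw [← h.act k hk, ← h.act _ (h.frame.ac_lt hcz hk), ← h.frame.ac_mul hcz h.hc hk,
    ← h.frame.ac_mul h.hc hcz hk, hcu.eq]

theorem ac_z {k : ℕ} (hk : k < 256) : ac z k = k := h.frame.ac_Q h.frame.es.mem hk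

/-! ### The intersection of the two subgroups -/

theorem sq_D {d : G} (hdP : InP Q g d) (hdQ : d ∈ Q) : d * d = 1 := by
  rcases h.frame.es.sq_cases hdQ with e | e
  · exact e
  · exact absurd (e ▸ h.inP_mul hdP hdP) h.z_notP

theorem qn_D {d : G} (hdP : InP Q g d) (hdQ : d ∈ Q) : qn (co d) = false :=
  pw_inj h.frame.es.ne (((h.frame.sq d hdQ).symm.trans (h.sq_D hdP hdQ)).trans (show (1 : G) = pw z false from rfl))

theorem eq_one_of_co {d : G} (hdP : InP Q g d) (hdQ : d ∈ Q) (h0 : co d = 0) : d = 1 :=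
  (h.frame.co_zero d hdQ h0).resolve_right fun e => h.z_notP (e ▸ hdP)

theorem co_inj_D {d d' : G} (hdP : InP Q g d) (hdQ : d ∈ Q) (hdP' : InP Q g d') (hdQ' : d' ∈ Q)
    (e : co d = co d') : d = d' := by
  have h0 : co (d⁻¹ * d') = 0 := by
    rw [h.frame.co_mul _ (inv_mem hdQ) _ hdQ', h.frame.co_inv hdQ, e, Nat.xor_self]
  exact inv_mul_eq_one.1 (h.eq_one_of_co (h.inP_mul (h.inP_inv hdP) hdP') (mul_mem (inv_mem hdQ) hdQ') h0)

theorem comm_D {e d : G} (heQ : e ∈ Q) (heu : Commute e u) (hdP : InP Q g d) (hdQ : d ∈ Q) :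
    Commute e d := by
  rw [h.frame.commute_Q heQ hdQ]
  cases hb : bn (co e) (co d) with
  | false => rfl
  | true =>
    have h1 := h.frame.comm_Q heQ hdQ
    rw [hb] at h1
    have h2 := h.inP_mul (h.inP_inv hdP) (h.inP_norm heu hdP)
    rw [h1, inv_mul_cancel_left] at h2
    exact absurd h2 h.z_notP

/-- The commutator with `u`. -/
theorem comm_mem {q : G} (hq : q ∈ Q) :
    q * u * q⁻¹ * u ∈ Q ∧ co (q * u * q⁻¹ * u) = co q ^^^ stdF s (co q) := by
  have hm : u * q⁻¹ * u⁻¹ ∈ Q := h.frame.norm u h.hc _ (inv_mem hq)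
  have e : q * u * q⁻¹ * u = q * (u * q⁻¹ * u⁻¹) := by rw [h.uinv]; group
  refine ⟨e ▸ mul_mem hq hm, ?_⟩
  rw [e, h.frame.co_mul q hq _ hm, h.frame.conj u h.hc _ (inv_mem hq), h.frame.co_inv hq,
    h.act _ (h.frame.co_lt q hq)]

theorem comm_inP {q : G} (hx : InP Q g (q * u * q⁻¹ * u)) : q * u * q⁻¹ * u = 1 := by
  have h1 := h.inP_mul hx h.inP_u
  rw [mul_assoc _ u u, h.uu, mul_one] at h1
  have e : q * u * q⁻¹ = (q * g) * z * (q * g)⁻¹ := by rw [h.hu]; group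
  rw [e] at h1
  rw [e, h.conj_eq h1, h.uu]

theorem comm_of_idx {q : G} {i : ℕ} (hq : q ∈ Q) (hi : i ∈ idxs s a) (e : co q = comb (cbs s) i) :
    Commute q u := by
  obtain ⟨hi1, hi2⟩ := mem_idxs.1 hi
  have h1 := h.chi q hq i hi1 e
  rw [hi2, show pw z false = 1 from rfl, mul_one] at h1
  calc q * u = u * q * u * u := by rw [h1]
    _ = u * q := by rw [mul_assoc, h.uu, mul_one]

theorem flip (hne : a ≠ 0) : ∃ q ∈ Q, q * u * q⁻¹ = u * z := by
  obtain ⟨i, hi, hp⟩ := (as_lt h.hs h.ha).2.2 hne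
  obtain ⟨q, hq, hqc⟩ := h.frame.co_surj _ (comb_fixed h.hs i).1
  have h1 := h.chi q hq i hi hqc
  rw [hp, show pw z true = z from rfl] at h1
  refine ⟨q, hq, ?_⟩
  calc q * u * q⁻¹ = u * (u * q * u) * q⁻¹ := by rw [mul_assoc u q u, ← mul_assoc u u, h.uu, one_mul]
    _ = u * (q * z * q⁻¹) := by rw [h1]; group
    _ = u * z := by rw [(h.frame.commute_of_mem hq).eq, mul_inv_cancel_right]

theorem exists_conj_uz (hne : a ≠ 0) : ∃ x, x * z * x⁻¹ = u * z := by
  obtain ⟨q, -, e⟩ := h.flip hne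
  exact ⟨q * g, by rw [← e, h.hu]; group⟩

theorem D_idx {d : G} (hdP : InP Q g d) (hdQ : d ∈ Q) : ∃ i ∈ idxs s a, co d = comb (cbs s) i := by
  have hcu := h.comm_u hdP
  have hfix : stdF s (co d) = co d := by
    rw [← h.act _ (h.frame.co_lt d hdQ), ← h.frame.conj u h.hc d hdQ, hcu.symm.eq, mul_inv_cancel_right]
  obtain ⟨i, hi, hie⟩ := exists_idx h.hs (h.frame.co_lt d hdQ) hfix
  refine ⟨i, mem_idxs.2 ⟨hi, ?_⟩, hie.symm⟩
  have h1 := h.chi d hdQ i hi hie.symm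
  rw [← hcu.eq, mul_assoc, h.uu, mul_one] at h1
  exact pw_inj h.frame.es.ne ((left_eq_mul.1 h1).trans (show (1 : G) = pw z false from rfl))

theorem D_perp {d : G} (hdP : InP Q g d) (hdQ : d ∈ Q) {i : ℕ} (hi : i ∈ idxs s a) :
    bn (co d) (comb (cbs s) i) = false := by
  obtain ⟨e, he, hec⟩ := h.frame.co_surj _ (comb_fixed h.hs i).1
  rw [← hec, ← h.frame.commute_Q hdQ he]
  exact (h.comm_D he (h.comm_of_idx he hi hec) hdP hdQ).symm

/-- An element of the intersection with code in the moved space. -/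
theorem D_moved {d : G} (hdP : InP Q g d) (hdQ : d ∈ Q) {k : ℕ} (hk : k < 256)
    (e : co d = k ^^^ stdF s k) (hconj : ∃ x, x * z * x⁻¹ = u * z) : d = 1 := by
  obtain ⟨q, hq, hqc⟩ := h.frame.co_surj k hk
  obtain ⟨hxQ, hxc⟩ := h.comm_mem hq
  rcases h.frame.co_eq hxQ hdQ (by rw [hxc, hqc, e]) with e1 | e1
  · rw [e1]; exact h.comm_inP (e1 ▸ hdP)
  · obtain ⟨y, hy⟩ := hconj
    have hqz : Commute q z := h.frame.commute_of_mem hq
    have e2 : d * u = (q * y) * z * (q * y)⁻¹ := by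
      calc d * u = q * u * q⁻¹ * u * (z * u) := by rw [e1, mul_assoc _ z u]
        _ = q * u * q⁻¹ * (u * u) * z := by rw [← h.hc.eq]; simp only [mul_assoc]
        _ = q * u * (q⁻¹ * z) := by rw [h.uu, mul_one, mul_assoc (q * u)]
        _ = q * (u * z) * q⁻¹ := by rw [(hqz.inv_left).eq]; simp only [mul_assoc]
        _ = (q * y) * z * (q * y)⁻¹ := by rw [← hy]; group
    have h3 := h.conj_eq (x := q * y) (e2 ▸ h.inP_mul hdP h.inP_u)
    rw [← e2] at h3
    exact mul_eq_right.1 h3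

/-- A symmetry of the configuration is realised in the centraliser of both involutions. -/
theorem stab {c : G} (hcz : Commute c z) (hcomm : ∀ k < 256, ac c (stdF s k) = stdF s (ac c k))
    (hchi : ChiPres s a (ac c)) (hfl : a ≠ 0 ∨ ¬ ∃ x, x * z * x⁻¹ = u * z) :
    ∃ c', Commute c' z ∧ Commute c' u ∧ ∀ k < 256, ac c' k = ac c k := by
  have F := h.frame
  set y := c * u * c⁻¹ * u with hy
  have hcuz : Commute (c * u * c⁻¹) z := (hcz.mul_left h.hc).mul_left hcz.inv_left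
  have hcuc : c * u * c⁻¹ = y * u := by rw [hy, mul_assoc _ u u, h.uu, mul_one]
  have hinv : (c * u * c⁻¹)⁻¹ = c * u * c⁻¹ := by rw [mul_inv_rev, mul_inv_rev, inv_inv, h.uinv]; group
  have hyQ : y ∈ Q := F.faithful y (hcuz.mul_left h.hc) fun k hk => by
    have hk' := F.ac_lt h.hc hk
    rw [hy, F.ac_mul hcuz h.hc hk, F.ac_conj h.hc hcz hk', h.act k hk, h.act _ (F.ac_lt hcz.inv_left ((stdF_lin h.hs).lt k hk)),
      hcomm _ (F.ac_lt hcz.inv_left ((stdF_lin h.hs).lt k hk)), F.ac_inv' hcz ((stdF_lin h.hs).lt k hk),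
      h.stdF_invol hk]
  have hperp : ∀ i' < 2 ^ dimC s, bn (co y) (comb (cbs s) i') = false := by
    intro i' hi'
    obtain ⟨hk', hfix⟩ := comb_fixed h.hs i'
    have hk : ac c⁻¹ (comb (cbs s) i') < 256 := F.ac_lt hcz.inv_left hk'
    have hkf : stdF s (ac c⁻¹ (comb (cbs s) i')) = ac c⁻¹ (comb (cbs s) i') := by
      have e := hcomm _ hk
      rw [F.ac_inv' hcz hk', hfix] at e
      have e2 := congrArg (ac c⁻¹) e
      rwa [F.ac_inv hcz ((stdF_lin h.hs).lt _ hk)] at e2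
    obtain ⟨i, hi, hie⟩ := exists_idx h.hs hk hkf
    obtain ⟨j, hj, hje, hjp⟩ := hchi i hi
    rw [hie, F.ac_inv' hcz hk'] at hje
    obtain ⟨q, hq, hqc⟩ := F.co_surj _ (comb_fixed h.hs i).1
    have hq' := F.norm c hcz q hq
    have hqc' : co (c * q * c⁻¹) = comb (cbs s) j := by
      rw [F.conj c hcz q hq, hqc, hie, F.ac_inv' hcz hk', hje]
    have e1 : (c * u * c⁻¹) * (c * q * c⁻¹) * (c * u * c⁻¹)⁻¹ = c * q * c⁻¹ * pw z (par (i &&& a)) := by
      rw [hinv]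
      calc _ = c * (u * q * u) * c⁻¹ := by group
        _ = c * q * (pw z (par (i &&& a)) * c⁻¹) := by rw [h.chi q hq i hi hqc]; group
        _ = _ := by rw [← (h.commute_pw hcz.inv_left _).eq]; simp only [mul_assoc]
    have e3 : (y * u) * (c * q * c⁻¹) * (y * u)⁻¹ = y * (c * q * c⁻¹) * y⁻¹ * pw z (par (i &&& a)) := by
      calc _ = y * (u * (c * q * c⁻¹) * u⁻¹) * y⁻¹ := by group
        _ = y * (c * q * c⁻¹ * pw z (par (i &&& a))) * y⁻¹ := by rw [h.uinv, h.chi _ hq' j hj hqc', hjp]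
        _ = y * (c * q * c⁻¹) * (pw z (par (i &&& a)) * y⁻¹) := by simp only [mul_assoc]
        _ = _ := by
          rw [← (h.commute_pw (F.commute_of_mem hyQ).inv_left _).eq]; simp only [mul_assoc]
    rw [hcuc, e3] at e1
    have e4 : Commute y (c * q * c⁻¹) := mul_inv_eq_iff_eq_mul.1 (mul_right_cancel e1)
    rw [F.commute_Q hyQ hq', hqc', hje] at e4
    exact e4
  have hM : inM s (co y) = true := by
    have hc := List.all_eq_true.1 (List.all_eq_true.1 perp_check s (List.mem_range.2 h.hs)) (co y)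
      (mem_all8.2 (F.co_lt y hyQ))
    have hall : ((cbs s).all fun c => !bn (co y) c) = true := by
      refine List.all_eq_true.2 fun c hcm => ?_
      obtain ⟨j, hj, rfl⟩ := List.getElem_of_mem hcm
      rw [← List.getD_eq_getElem _ 0 hj, ← (cbs_spec h.hs).2.2.2.1 j hj,
        hperp _ (Nat.pow_lt_pow_right (by norm_num) hj)]
      rfl
    rw [hall, Bool.not_true, Bool.false_or] at hc
    exact hc
  obtain ⟨k, hk, hke⟩ := inM_iff h.hs hM
  obtain ⟨q, hq, hqc⟩ := F.co_surj k hk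
  obtain ⟨hxQ, hxc⟩ := h.comm_mem hq
  have hqz : Commute q z := F.commute_of_mem hq
  have hc₁ : Commute (q⁻¹ * c) z := hqz.inv_left.mul_left hcz
  have hac : ∀ k < 256, ac (q⁻¹ * c) k = ac c k := fun k hk => by
    rw [F.ac_mul hqz.inv_left hcz hk, F.ac_Q (inv_mem hq) (F.ac_lt hcz hk)]
  have hconj : (q⁻¹ * c) * u * (q⁻¹ * c)⁻¹ = q⁻¹ * (y * u) * q := by rw [← hcuc]; group
  rcases F.co_eq hxQ hyQ (by rw [hxc, hqc, hke]) with e | e
  · refine ⟨q⁻¹ * c, hc₁, mul_inv_eq_iff_eq_mul.1 ?_, hac⟩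
    rw [hconj, e, mul_assoc _ u u, h.uu, mul_one]
    group
  · have e5 : (q⁻¹ * c) * u * (q⁻¹ * c)⁻¹ = u * z := by
      rw [hconj, e, mul_assoc (q * u * q⁻¹ * u) z u, ← h.hc.eq, ← mul_assoc (q * u * q⁻¹ * u) u z,
        mul_assoc (q * u * q⁻¹) u u, h.uu, mul_one]
      calc q⁻¹ * (q * u * q⁻¹ * z) * q = u * (q⁻¹ * z) * q := by group
        _ = u * z := by rw [hqz.inv_left.eq]; group
    rcases hfl with hne | hno
    · obtain ⟨q₁, hq₁, e₁⟩ := h.flip hne
      have hq₁z : Commute q₁ z := F.commute_of_mem hq₁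
      refine ⟨q₁ * (q⁻¹ * c), hq₁z.mul_left hc₁, mul_inv_eq_iff_eq_mul.1 ?_, fun k hk => ?_⟩
      · calc q₁ * (q⁻¹ * c) * u * (q₁ * (q⁻¹ * c))⁻¹
            = q₁ * ((q⁻¹ * c) * u * (q⁻¹ * c)⁻¹) * q₁⁻¹ := by group
          _ = q₁ * u * (z * q₁⁻¹) := by rw [e5]; group
          _ = q₁ * u * q₁⁻¹ * z := by rw [← hq₁z.inv_left.eq]; group
          _ = u := by rw [e₁, mul_assoc, h.zz, mul_one]
      · rw [F.ac_mul hq₁z hc₁ hk, F.ac_Q hq₁ (F.ac_lt hc₁ hk), hac k hk]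
    · exact absurd ⟨q⁻¹ * c * g, by rw [← e5, h.hu]; group⟩ hno

end Cfg

end Cfsg.Agent.Lib.Co1Weak71
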