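import Cfsg.Agent.Lib.Co1Weak71.DOne

/-!
# The weakly closed case of the Conway centraliser: every conjugate in `C(z)` fixes sixteen codes

Owner: helper71.
-/

set_option autoImplicit false
set_option maxRecDepth 100000

namespace Cfsg.Agent.Lib.Co1Weak71

open Cfsg.Agent.Lib.Co1Type31
open Cfsg.Agent.Lib.LargeExtraspecial.Basic

variable {G : Type*} [Group G] [Finite G] {z : G} {Q : Subgroup G} {co : G → ℕ} {ac : G → ℕ → ℕ}

theorem fixN_std {s : ℕ} (hs : s < 5) (h2 : 2 ≤ s) : fixN (stdF s) = 16 := by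
  have hs' : s ∈ [2, 3, 4] := by interval_cases s <;> decide
  exact Nat.eq_of_beq_eq_true (List.all_eq_true.1 fix_std_check s hs')

theorem surv_spec {s a : ℕ} (hs : s < 5) (ha : a ∈ As s) {L : List ℕ} (hL : L ∈ surv s a) : Lin8 (comb L) := by
  have h := List.all_eq_true.1 (List.all_eq_true.1 (List.all_eq_true.1 surv_basic s (List.mem_range.2 hs))
    a ha) L hL
  simp only [Bool.and_eq_true, List.all_eq_true, decide_eq_true_eq] at h
  exact comb_lin h.2

namespace Cfg

variable {g u v : G} {s a t b : ℕ} (h : Cfg z Q co ac g u s a) (h' : Cfg z Q co ac g⁻¹ v t b)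
include h h'

/-- The action of an element of the second centraliser is in the table. -/
theorem F_surv {f : G} (hfP : InP Q g f) (hfz : Commute f z) :
    ∃ L ∈ surv s a, ∀ k < 256, ac f k = comb L k := by
  refine surv_mem h.hs h.ha (h.frame.iso hfz) (fun i hi => ?_) (fun c hc => ?_) (h.F_iso hfP hfz).2
  · obtain ⟨e, heQ, hec⟩ := h.frame.co_surj _ (comb_fixed h.hs i).1
    obtain ⟨hQ', hP', hco⟩ := h.F_comm_mem hfP hfz heQ (h.comm_of_idx heQ hi hec)
    rw [h.D_one h' hP' hQ', h.frame.co_one, hec] at hco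
    exact Nat.eq_of_xor_eq_zero hco.symm
  · obtain ⟨i, hi, hie⟩ := List.any_eq_true.1 (List.all_eq_true.1 (List.all_eq_true.1
      (List.all_eq_true.1 fixB_check s (List.mem_range.2 h.hs)) a h.ha) c hc)
    exact ⟨i, hi, Nat.eq_of_beq_eq_true hie⟩

theorem two_le_s : 2 ≤ s := by
  classical
  by_contra hlt
  have hs' : s ∈ [0, 1] := by
    have : s < 2 := by omega
    interval_cases s <;> decide
  obtain ⟨T, hT, hTm⟩ := h.sixteen h'
  have hex : ∀ f ∈ T, ∃ L ∈ (surv s a).filter (fun L => !(all8.any fun v => qn v && agree (comb L) (refl v))),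
      ∀ k < 256, ac f k = comb L k := fun f hf => by
    obtain ⟨L, hL, hLk⟩ := h.F_surv h' (hTm f hf).1 (hTm f hf).2
    refine ⟨L, List.mem_filter.2 ⟨hL, ?_⟩, hLk⟩
    rw [Bool.not_eq_true']
    refine Bool.eq_false_iff.2 fun e => ?_
    obtain ⟨w, hw, hwe⟩ := List.any_eq_true.1 e
    rw [Bool.and_eq_true] at hwe
    exact h.frame.not_refl f (hTm f hf).2 w (mem_all8.1 hw) hwe.1 fun k hk =>
      (hLk k hk).trans ((surv_spec h.hs h.ha hL).ext (refl_lin (mem_all8.1 hw)) hwe.2 k hk)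
  choose! L hL hLk using hex
  have hcard : ((surv s a).filter (fun L => !(all8.any fun v => qn v && agree (comb L) (refl v)))).toFinset.card <
      T.card := by
    have h1 := Nat.le_of_ble_eq_true (List.all_eq_true.1 (List.all_eq_true.1 small_check s hs') a h.ha)
    have h2 := List.toFinset_card_le ((surv s a).filter (fun L => !(all8.any fun v => qn v && agree (comb L) (refl v))))
    omega
  obtain ⟨f, hf, f', hf', hne, e⟩ := Finset.exists_ne_map_eq_of_card_lt_of_maps_to (f := L) hcard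
    (fun f hf => Finset.mem_coe.2 (List.mem_toFinset.2 (hL f hf)))
  obtain ⟨hP, hQ⟩ := h.F_quot (hTm f hf).1 (hTm f hf).2 (hTm f' hf').1 (hTm f' hf').2
    fun k hk => by rw [hLk f hf k hk, hLk f' hf' k hk, e]
  exact hne (inv_mul_eq_one.1 (h.D_one h' hP hQ))

end Cfg

/-- A conjugate of `z` in `C(z)` other than `z` fixes sixteen codes. -/
theorem fixN_conjugate (F : Frame z Q co ac) (wc : ∀ x : G, x * z * x⁻¹ ∈ Q → x * z * x⁻¹ = z) (x : G)
    (hc : Commute (x * z * x⁻¹) z) (ne : x * z * x⁻¹ ≠ z) : fixN (ac (x * z * x⁻¹)) = 16 := by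
  obtain ⟨c, g', u, v, s, a, t, b, hcz, hu, h, h'⟩ := exists_cfg2 F wc x hc ne
  rw [← fixN_std h.hs (h.two_le_s h'), ← fixN_congr h.act]
  refine (fixN_conj (p := ac c) (fun k hk => F.ac_lt hcz hk) (fun j hj k hk e => ?_) (fun k hk => ?_)
    (fun k hk => F.ac_lt hc hk)).symm
  · rw [← F.ac_inv hcz hj, e, F.ac_inv hcz hk]
  · rw [hu, F.ac_conj hc hcz (F.ac_lt hcz hk), F.ac_inv hcz hk]

end Cfsg.Agent.Lib.Co1Weak71
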